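import Cfsg.Agent.Lib.KnownA.MinDegD4.Weyl

/-!
The norm onto the fixed field, the characters, and the weights of the torus.
-/

set_option autoImplicit false
set_option maxRecDepth 20000

namespace CfsgLib.KnownA.MinDegD4

open CfsgLib.Chevalley CfsgLib.Chevalley.Tbl CfsgLib.KnownA.D4Sub

variable {K : Type*} [Field K] [Finite K] {q : ℕ} (hq : IsPrimePow q) (hK : Nat.card K = q ^ 3)

local notation "σ" => Twist.D4.fq hq hK

theorem nm_mul (x y : K) : nm hq hK (x * y) = nm hq hK x * nm hq hK y :=
  Subtype.ext (show x * y * (σ (x * y) * σ (σ (x * y))) = x * (σ x * σ (σ x)) * (y * (σ y * σ (σ y))) by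
    rw [map_mul, map_mul]; ring)

theorem nm_coe (x : K) : ((nm hq hK x : Fx hq hK) : K) = x ^ (q * q + q + 1) := by
  show x * (σ x * σ (σ x)) = _
  rw [Twist.D4.fq_apply, Twist.D4.fq_apply, ← pow_mul, pow_succ, pow_add]
  ring

theorem nm_surjective : Function.Surjective (nm hq hK) := by
  classical
  have hq2 := Twist.two_le_of_isPrimePow hq
  have := Fintype.ofFinite K
  intro b
  by_cases hb : b = 0
  · exact ⟨0, Subtype.ext (by rw [nm_coe, hb]; simp)⟩
  let d := q * q + q + 1
  have hsub : (q - 1) * d + 1 = q ^ 3 := by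
    obtain ⟨r, rfl⟩ := Nat.exists_eq_add_of_le' hq2
    rw [show r + 2 - 1 = r + 1 by omega]
    ring
  have hcard : Nat.card Kˣ = (q - 1) * d := by
    rw [Nat.card_units, hK, ← hsub]; omega
  have hbu : ((b : K)) ^ (q - 1) = 1 := by
    have h1 : (b : K) ^ q = b := by rw [← Twist.D4.fq_apply hq hK]; exact fx_eq hq hK b
    have h2 : (b : K) ^ (q - 1) * b = 1 * b := by
      rw [one_mul, ← pow_succ, show q - 1 + 1 = q by omega, h1]
    exact mul_right_cancel₀ (fun e => hb (Subtype.ext e)) h2
  obtain ⟨g, hg⟩ := IsCyclic.exists_monoid_generator (α := Kˣ)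
  obtain ⟨i, hi⟩ := hg (Units.mk0 (b : K) fun e => hb (Subtype.ext e))
  have hi' : (g : K) ^ i = b := by
    have := congrArg Units.val hi
    simpa using this
  have ho : orderOf g = (q - 1) * d := by
    rw [← hcard]
    refine orderOf_eq_card_of_forall_mem_zpowers fun x => ?_
    obtain ⟨j, rfl⟩ := hg x
    exact ⟨j, zpow_natCast _ _⟩
  have hdvd : (q - 1) * d ∣ i * (q - 1) := by
    rw [← ho]
    refine orderOf_dvd_of_pow_eq_one (Units.ext ?_)
    rw [Units.val_pow_eq_pow_val, pow_mul, hi', hbu, Units.val_one]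
  rw [mul_comm i] at hdvd
  obtain ⟨j, rfl⟩ := Nat.dvd_of_mul_dvd_mul_left (by omega) hdvd
  exact ⟨(g : K) ^ j, Subtype.ext (by rw [nm_coe, ← pow_mul, mul_comm, hi'])⟩

theorem exists_primitive : ∃ ψ : AddChar (Fx hq hK) ℂ, ψ.IsPrimitive := by
  obtain ⟨ψ, hψ⟩ := AddChar.exists_apply_ne_zero.2 (one_ne_zero (α := Fx hq hK))
  exact ⟨ψ, AddChar.IsPrimitive.of_ne_one fun e => hψ (by simp [e])⟩

/-- The trace as an additive map. -/
noncomputable def trHom : K →+ Fx hq hK where
  toFun := tr hq hK
  map_zero' := Subtype.ext (by simp [tr])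
  map_add' x y := Subtype.ext (show (x + y) + (σ (x + y) + σ (σ (x + y))) =
    (x + (σ x + σ (σ x))) + (y + (σ y + σ (σ y))) by rw [map_add, map_add]; ring)

theorem tr_shift (x : K) : tr hq hK (σ (σ x)) = tr hq hK x :=
  Subtype.ext (show σ (σ x) + (σ (σ (σ x)) + σ (σ (σ (σ x)))) = x + (σ x + σ (σ x)) by
    rw [h3 hq hK]; ring)

theorem tr_smul (c : Fx hq hK) (x : K) : tr hq hK ((c : K) * x) = c * tr hq hK x :=
  Subtype.ext (show (c : K) * x + (σ ((c : K) * x) + σ (σ ((c : K) * x))) = c * (x + (σ x + σ (σ x))) by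
    simp only [map_mul, fx_eq]; ring)

theorem exists_tr_ne : ∃ x : K, tr hq hK x ≠ 0 := by
  classical
  have := Fintype.ofFinite K
  have hq2 := Twist.two_le_of_isPrimePow hq
  by_contra h
  push Not at h
  let P : Polynomial K := Polynomial.X + (Polynomial.X ^ q + Polynomial.X ^ (q * q))
  have hdeg : P.natDegree ≤ q * q := by
    refine (Polynomial.natDegree_add_le _ _).trans (max_le ?_ ((Polynomial.natDegree_add_le _ _).trans (max_le ?_ ?_)))
    · simp; nlinarith
    · simp; exact Nat.le_mul_self q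
    · simp
  have hP : P ≠ 0 := fun e => by
    have := congrArg (Polynomial.coeff · 1) e
    simp [P, Polynomial.coeff_X_pow, show 1 ≠ q by omega, show 1 ≠ q * q by nlinarith] at this
  have hroots : ∀ x : K, x ∈ P.roots.toFinset := fun x => by
    rw [Multiset.mem_toFinset, Polynomial.mem_roots hP]
    have := congrArg Subtype.val (h x)
    simp only [tr, ZeroMemClass.coe_zero, Twist.D4.fq_apply, ← pow_mul] at this
    simpa [Polynomial.IsRoot, P] using this
  have h1 : Fintype.card K ≤ q * q := by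
    refine (Finset.card_le_card (s := Finset.univ) fun x _ => hroots x).trans ?_
    exact (Multiset.toFinset_card_le _).trans ((Polynomial.card_roots' _).trans hdeg)
  rw [← Nat.card_eq_fintype_card, hK] at h1
  nlinarith

theorem primitive_trace {ψ : AddChar (Fx hq hK) ℂ} (hψ : ψ.IsPrimitive) :
    (ψ.compAddMonoidHom (trHom hq hK)).IsPrimitive := by
  refine AddChar.IsPrimitive.of_ne_one fun e => ?_
  obtain ⟨x, hx⟩ := exists_tr_ne hq hK
  apply hψ (one_ne_zero (α := Fx hq hK))
  refine DFunLike.ext _ _ fun y => ?_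
  have := congrFun (congrArg (⇑) e) ((((y / tr hq hK x : Fx hq hK)) : K) * x)
  simp only [AddChar.compAddMonoidHom_apply, AddChar.one_apply] at this
  have e2 : trHom hq hK (((y / tr hq hK x : Fx hq hK) : K) * x) = y :=
    (tr_smul hq hK _ x).trans (div_mul_cancel₀ y hx)
  rw [e2] at this
  simpa [AddChar.mulShift_apply] using this

theorem wC_inj : Function.Injective (fun u : Kˣ => wC hq hK u) := by
  intro u v huv
  have key : ∀ z : K, z ≠ 0 → z * σ z = σ (σ z) → z = 1 := by
    intro z hz e
    have e1 := congrArg σ e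
    rw [map_mul, h3 hq hK, ← e] at e1
    have h1 : σ z * σ z = 1 := by
      have : z * (σ z * σ z) = z * 1 := by rw [mul_one]; linear_combination e1
      exact mul_left_cancel₀ hz this
    have h2 : z * z = 1 := (σ).injective (by rw [map_mul, map_one]; exact h1)
    have h4 : σ z = z := by
      rcases mul_self_eq_one_iff.1 h2 with rfl | rfl
      · exact map_one σ
      · rw [map_neg, map_one]
    rw [h4, h4, h2] at e
    exact e.symm
  refine Units.ext (div_eq_one_iff_eq v.ne_zero |>.1 (key ((u : K) / v) (div_ne_zero u.ne_zero v.ne_zero) ?_))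
  have hv : ∀ w : Kˣ, σ (σ (w : K)) ≠ 0 := fun w => by simp
  simp only [wC, div_eq_div_iff (hv u) (hv v)] at huv
  rw [map_div₀, map_div₀, div_mul_div_comm, div_eq_div_iff (mul_ne_zero v.ne_zero (by simp)) (hv v)]
  linear_combination huv

theorem wB_inj : Function.Injective (fun u : Kˣ => wB hq hK u 1) := by
  intro u v huv
  have key : ∀ z : K, z ≠ 0 → z = σ z * σ (σ z) → z = 1 := by
    intro z hz e
    have e1 := congrArg σ e
    rw [map_mul, h3 hq hK] at e1
    have hz2 : σ (σ z) ≠ 0 := by simp [hz]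
    have h1 : σ (σ z) * σ (σ z) = 1 := by
      have : z * (σ (σ z) * σ (σ z)) = z * 1 := by
        rw [mul_one]; linear_combination -e - σ (σ z) * e1
      exact mul_left_cancel₀ hz this
    have h2 : z * z = 1 := (σ).injective ((σ).injective (by rw [map_mul, map_mul, map_one, map_one]; exact h1))
    have h4 : σ z = z := by
      rcases mul_self_eq_one_iff.1 h2 with rfl | rfl
      · exact map_one σ
      · rw [map_neg, map_one]
    rw [h4, h4, h2] at e
    exact e
  refine Units.ext (div_eq_one_iff_eq v.ne_zero |>.1 (key ((u : K) / v) (div_ne_zero u.ne_zero v.ne_zero) ?_))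
  have hv : ∀ w : Kˣ, σ (w : K) * σ (σ (w : K)) ≠ 0 := fun w => by simp
  simp only [wB, Units.val_one, OneMemClass.coe_one, mul_one, div_eq_div_iff (hv u) (hv v)] at huv
  rw [map_div₀, map_div₀, div_mul_div_comm, div_eq_div_iff v.ne_zero (hv v)]
  linear_combination huv

theorem wA_fibre (u v : Kˣ) (h : wA hq hK u 1 = wA hq hK v 1) : u = v ∨ u = -v := by
  simp only [wA, Units.val_one, OneMemClass.coe_one, div_one] at h
  rcases sq_eq_sq_iff_eq_or_eq_neg.1 h with e | e
  · exact Or.inl (Units.ext e)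
  · exact Or.inr (Units.ext e)

end CfsgLib.KnownA.MinDegD4
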