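import Cfsg.Agent.Lib.KnownA.MinDegD4.Plane
import Cfsg.Agent.Lib.Char.Integral

/-!
The smallest degree of a nontrivial representation of ³D₄(q).
-/

set_option autoImplicit false
set_option maxRecDepth 20000

namespace CfsgLib.KnownA.MinDegD4

open CfsgLib.Chevalley CfsgLib.Chevalley.Tbl CfsgLib.KnownA.D4Sub CfsgLib.KnownA.MinDeg
open Module (finrank)

variable {K : Type*} [Field K] [Fintype K] {q : ℕ} {hq : IsPrimePow q} {hK : Nat.card K = q ^ 3}
variable {V : Type*} [AddCommGroup V] [Module ℂ V] [FiniteDimensional ℂ V]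
variable {ρ : Representation ℂ (Gd hq hK) V} {ψ : AddChar (Fx hq hK) ℂ}

local notation "σ" => Twist.D4.fq hq hK

theorem simple_Gd : IsSimpleGroup (Gd hq hK) := by
  haveI := (Twist.D4.simple hq hK).1
  let e := MulEquiv.subgroupCongr (Twist.D4.G_eq hq hK)
  haveI : Nontrivial (Gd hq hK) := e.toEquiv.symm.nontrivial
  exact IsSimpleGroup.isSimpleGroup_of_surjective e.toMonoidHom e.surjective

theorem card_Gd : Nat.card (Gd hq hK) = q ^ 12 * (q ^ 2 - 1) * (q ^ 6 - 1) * (q ^ 8 + q ^ 4 + 1) := by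
  rw [← Twist.D4.card_eq hq hK]
  exact Nat.card_congr (MulEquiv.subgroupCongr (Twist.D4.G_eq hq hK)).toEquiv.symm

theorem plane_pos [ρ.IsIrreducible] (hk : 2 ≤ finrank ℂ V) (hψ : ψ.IsPrimitive) :
    1 ≤ finrank ℂ (W hq hK ρ ψ 0 1) := by
  classical
  have := Fintype.ofFinite (Fx hq hK)
  refine Nat.pos_of_ne_zero fun h0 => ?_
  have hn : ∀ n, n ≠ 0 → eig ρ ψ (x23 hq hK) n = ⊥ := fun n hn => by
    refine Submodule.finrank_eq_zero.1 ?_
    rw [finrank_eq_sum hψ (stable23 (hq := hq) (hK := hK) n)]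
    exact Finset.sum_eq_zero fun l _ => (finrank_pair (Or.inr hn)).trans h0
  have htop : (⊤ : Submodule ℂ V) ≤ eig ρ ψ (x23 hq hK) 0 :=
    le_eig_zero hψ (stable_top _) fun n h => by rw [hn n h, inf_bot_eq]
  have := simple_Gd (hq := hq) (hK := hK)
  have hne : x23 hq hK 1 ≠ 1 := fun e => by
    have e' : Data.D4.tbl.xU K 23 (1 : K) = 1 := congrArg Subtype.val e
    rw [← xU_zero Data.D4.valid (show 23 < Data.D4.tbl.n by decide +kernel)] at e'
    exact one_ne_zero (xU_inj Data.D4.valid (show 23 < Data.D4.tbl.n by decide +kernel) e')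
  rcases (MonoidHom.normal_ker ρ).eq_bot_or_eq_top with h | h
  · refine hne (Subgroup.mem_bot.1 (h ▸ MonoidHom.mem_ker.2 (LinearMap.ext fun v => ?_)))
    exact mem_eig_zero _ _ _ |>.1 (htop (Submodule.mem_top (x := v))) 1
  · have : (⊤ : Submodule ℂ V) = ⊥ := eq_bot_of_fixed (ρ := ρ) hk fun g v _ => by
      rw [MonoidHom.mem_ker.1 (h ▸ Subgroup.mem_top g), Module.End.one_apply]
    rw [← finrank_top ℂ V, this, finrank_bot] at hk
    omega

theorem two_mul_le (hq2 : 2 ≤ q) : 2 * q ≤ q ^ 3 - 1 := by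
  have : 2 * q + 1 ≤ q ^ 3 := by nlinarith [Nat.mul_le_mul (Nat.mul_le_mul hq2 hq2) (le_refl q)]
  omega

/-- A nonzero eigenvector of a short root group has a large orbit under the torus. -/
theorem orbit_le {W0 : Submodule ℂ V} (hh : ∀ u : Kˣ, ∀ v ∈ W0, ρ (gh hq hK u 1) v ∈ W0)
    (hψ : ψ.IsPrimitive) (y : AddChar K (Gd hq hK)) (hy : Stable ρ y W0) (w : Kˣ → K) (hw : ∀ u, w u ≠ 0)
    (hfib : ∀ u v, w u = w v → u = v ∨ u = -v)
    (hconj : ∀ u t, y (w u * t) * gh hq hK u 1 = gh hq hK u 1 * y t) {l : K} (hl : l ≠ 0)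
    (hne : W0 ⊓ eig ρ (psiK hq hK ψ) y l ≠ ⊥) : q ≤ finrank ℂ W0 := by
  classical
  obtain ⟨v, hv, hv0⟩ := Submodule.exists_mem_ne_zero_of_ne_bot hne
  let S : Finset K := (Finset.univ : Finset Kˣ).image fun u => l / w u
  have hS : ∀ l' ∈ S, 1 ≤ finrank ℂ ↥(W0 ⊓ eig ρ (psiK hq hK ψ) y l') := fun l' hl' => by
    obtain ⟨u, -, rfl⟩ := Finset.mem_image.1 hl'
    refine Submodule.one_le_finrank_iff.2 fun e => ?_
    have : ρ (gh hq hK u 1) v ∈ W0 ⊓ eig ρ (psiK hq hK ψ) y (l / w u) :=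
      ⟨hh u v hv.1, map_eig (hw u) (hconj u) hv.2⟩
    rw [e, Submodule.mem_bot] at this
    exact hv0 (map_injective _ (this.trans (map_zero _).symm))
  have h1 := card_mul_le (primitive_trace hq hK hψ) hy S hS
  have h2 : (Finset.univ : Finset Kˣ).card ≤ 2 * S.card := by
    refine Finset.card_le_mul_card_image _ 2 fun b hb => ?_
    obtain ⟨u₀, -, rfl⟩ := Finset.mem_image.1 hb
    refine (Finset.card_le_card (t := {u₀, -u₀}) fun u hu => ?_).trans Finset.card_le_two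
    simp only [Finset.mem_filter, Finset.mem_univ, true_and] at hu
    have hwu : w u = w u₀ := by
      have := congrArg (fun z => l / z) hu
      simpa [div_div_cancel₀ hl] using this
    simpa using hfib u u₀ hwu
  rw [Finset.card_univ, ← Nat.card_eq_fintype_card, Nat.card_units, hK] at h2
  have := two_mul_le (Twist.two_le_of_isPrimePow hq)
  omega

/-- A vector on which the whole maximal unipotent part is trivial is zero. -/
theorem fixed_eq_bot [ρ.IsIrreducible] (hk : 2 ≤ finrank ℂ V)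
    (hA : W hq hK ρ ψ 0 0 ≤ eig ρ (psiK hq hK ψ) (ga hq hK) 0)
    (h14 : W hq hK ρ ψ 0 0 ≤ eig ρ ψ (x14 hq hK) 0) : W hq hK ρ ψ 0 0 = ⊥ := by
  set T := W hq hK ρ ψ 0 0 with hT
  have hn : ∀ v ∈ T, ρ (gn hq hK) v ∈ T := fun v hv => by
    have := gn_map hv
    rwa [neg_zero] at this
  have hm : ∀ v ∈ T, ρ (gm hq hK) v ∈ T := fun v hv => by
    refine ⟨?_, (mem_eig_zero _ _ _).2 fun t => ?_⟩
    · exact map_comm (fun t => (gm_x23 hq hK t).symm) hv.1
    · have e := gm_x14 hq hK (-t)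
      rw [neg_neg] at e
      rw [← Module.End.mul_apply, ← map_mul, ← e, map_mul, Module.End.mul_apply,
        (mem_eig_zero _ _ _).1 (h14 hv) _]
  have hsur : ∀ g : Gd hq hK, (∀ v ∈ T, ρ g v ∈ T) → ∀ v ∈ T, ∃ w ∈ T, ρ g w = v := fun g hg v hv => by
    have hinj : Function.Injective ((ρ g).restrict hg) := fun a b e =>
      Subtype.ext (map_injective g (congrArg Subtype.val e))
    obtain ⟨w, hw⟩ := (LinearMap.injective_iff_surjective.1 hinj) ⟨v, hv⟩
    exact ⟨w.1, w.2, congrArg Subtype.val hw⟩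
  let H : Subgroup (Gd hq hK) :=
    { carrier := {g | ∀ v ∈ T, ρ g v = v}
      one_mem' := fun v _ => by rw [map_one, Module.End.one_apply]
      mul_mem' := fun {a b} ha hb v hv => by rw [map_mul, Module.End.mul_apply, hb v hv, ha v hv]
      inv_mem' := fun {a} ha v hv => by
        conv_lhs => rw [← ha v hv]
        rw [← Module.End.mul_apply, ← map_mul, inv_mul_cancel, map_one, Module.End.one_apply] }
  have htop : H = ⊤ := by
    refine eq_top_of_gens hq hK (fun t v hv => (mem_eig_zero _ _ _).1 (hA hv) t) (fun t v hv => ?_)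
      (fun c v hv => (mem_eig_zero _ _ _).1 (h14 hv) c) (fun c v hv => ?_)
    · obtain ⟨w, hw, rfl⟩ := hsur _ hm v hv
      have e := gm_ga hq hK (-t)
      rw [neg_neg] at e
      rw [← Module.End.mul_apply, ← map_mul, ← e, map_mul, Module.End.mul_apply,
        (mem_eig_zero _ _ _).1 (hA hw) _]
    · obtain ⟨w, hw, rfl⟩ := hsur _ hn v hv
      have e := gn_x14 hq hK (-c)
      rw [neg_neg] at e
      rw [← Module.End.mul_apply, ← map_mul, ← e, map_mul, Module.End.mul_apply,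
        (mem_eig_zero _ _ _).1 (h14 hw) _]
  exact eq_bot_of_fixed (ρ := ρ) hk fun g v hv => (show g ∈ H from htop ▸ Subgroup.mem_top g) v hv

/-- The degree is not the forbidden one. -/
theorem not_dvd {k : ℕ} (hq2 : 2 ≤ q) (hk : k + q ^ 3 + 1 = q ^ 5 + q) :
    ¬ k ∣ q ^ 12 * (q ^ 2 - 1) * (q ^ 6 - 1) * (q ^ 8 + q ^ 4 + 1) := by
  intro hd
  have hco : Nat.Coprime k q := by
    refine Nat.coprime_of_dvd' fun p _ hpk hpq => ?_
    have h1 : p ∣ k + q ^ 3 + 1 := hk ▸ dvd_add (dvd_pow hpq (by norm_num)) hpq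
    exact (Nat.dvd_add_right (dvd_add hpk (dvd_pow hpq (by norm_num)))).1 h1
  rw [mul_assoc, mul_assoc] at hd
  have hd' := (hco.pow_right 12).dvd_of_dvd_mul_left hd
  have h2 : 1 ≤ q ^ 2 := Nat.one_le_pow _ _ (by omega)
  have h6 : 1 ≤ q ^ 6 := Nat.one_le_pow _ _ (by omega)
  obtain ⟨j, hj⟩ := Int.natCast_dvd_natCast.2 hd'
  push_cast [Nat.cast_sub h2, Nat.cast_sub h6] at hj
  have hkz : (k : ℤ) = (q : ℤ) ^ 5 - (q : ℤ) ^ 3 + q - 1 := by
    have := congrArg (Nat.cast : ℕ → ℤ) hk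
    push_cast at this
    linarith
  set Q : ℤ := (q : ℤ)
  set R : ℤ := 3 * Q ^ 4 - 3 * Q ^ 3 - 2 * Q ^ 2 + 4 * Q - 2
  have hdR : (k : ℤ) ∣ R := by
    refine ⟨j - (Q ^ 11 + Q ^ 6 - 2 * Q ^ 5 + Q ^ 4 + Q - 3), ?_⟩
    rw [mul_sub, ← hj, hkz]
    ring
  have hQ : (2 : ℤ) ≤ Q := by show (2 : ℤ) ≤ (q : ℤ); exact_mod_cast hq2
  have hR0 : 0 < R := by
    simp only [R]
    nlinarith [pow_le_pow_left₀ (by norm_num) hQ 2, mul_nonneg (sub_nonneg.2 hQ) (pow_nonneg (by linarith : (0:ℤ) ≤ Q) 2),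
      mul_nonneg (sub_nonneg.2 hQ) (pow_nonneg (by linarith : (0:ℤ) ≤ Q) 3)]
  have hle := Int.le_of_dvd hR0 hdR
  rw [hkz] at hle
  simp only [R] at hle
  rcases le_or_gt 4 q with h4 | h4
  · have hQ4 : (4 : ℤ) ≤ Q := by show (4 : ℤ) ≤ (q : ℤ); exact_mod_cast h4
    nlinarith [mul_nonneg (sub_nonneg.2 hQ4) (pow_nonneg (by linarith : (0:ℤ) ≤ Q) 4),
      mul_nonneg (sub_nonneg.2 hQ4) (pow_nonneg (by linarith : (0:ℤ) ≤ Q) 3),
      mul_nonneg (sub_nonneg.2 hQ4) (pow_nonneg (by linarith : (0:ℤ) ≤ Q) 2),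
      mul_nonneg (sub_nonneg.2 hQ4) (by linarith : (0:ℤ) ≤ Q)]
  · simp only [Q] at hle
    interval_cases q <;> norm_num at hle

/-- Some vector outside the fixed space of the plane forces that space to be nonzero. -/
theorem exists_fixed (hψ : ψ.IsPrimitive) (he : finrank ℂ (WC hq hK ρ ψ 0 1 0) = 1)
    (he' : finrank ℂ (WC hq hK ρ ψ 0 (-1) 0) = 1) : W hq hK ρ ψ 0 0 ≠ ⊥ := by
  classical
  intro h00
  have := Fintype.ofFinite (Fx hq hK)
  have hψK := primitive_trace hq hK hψ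
  set L := WC hq hK ρ ψ (-1) 0 0 with hL
  have hgn : ∀ l n, ∀ v ∈ WC hq hK ρ ψ l n 0, ρ (gn hq hK) v ∈ WC hq hK ρ ψ (-n) l 0 := fun l n v hv =>
    ⟨gn_map hv.1, map_comm (fun t => (gn_gc hq hK t).symm) hv.2⟩
  have hL1 : finrank ℂ L = 1 := by
    refine le_antisymm ?_ (he.ge.trans (finrank_le_of_map (ρ := ρ) _ (hgn 0 1)))
    have h := finrank_le_of_map (ρ := ρ) (B := WC hq hK ρ ψ 0 (-1) 0) (gn hq hK) fun v hv => by
      have := hgn (-1) 0 v hv
      rwa [neg_zero] at this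
    exact h.trans he'.le
  have sB : Stable ρ (gb hq hK) L := fun s v hv => by
    simpa using gc_shift (s := s) hv
  have s14 : Stable ρ (x14 hq hK) L := fun c v hv =>
    ⟨by simpa using shift14 c hv.1, map_comm (fun t => (x14_comm_gc hq hK c t).symm) hv.2⟩
  have hLne : L ≠ ⊥ := fun e => by rw [e, finrank_bot] at hL1; omega
  obtain ⟨lB, hlB⟩ := exists_eig hψK sB hLne
  obtain ⟨β, hβ⟩ := exists_eig hψ s14 hLne
  have hfull : ∀ E : Submodule ℂ V, L ⊓ E ≠ ⊥ → L ≤ E := fun E hE => by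
    have h1 : L ⊓ E = L := Submodule.eq_of_le_of_finrank_le inf_le_left
      (hL1.le.trans (Submodule.one_le_finrank_iff.2 hE))
    exact h1 ▸ inf_le_right
  have hLB := hfull _ hlB
  have hL14 := hfull _ hβ
  obtain ⟨v, hv, hv0⟩ := Submodule.exists_mem_ne_zero_of_ne_bot hLne
  have hlB0 : lB = 0 := by
    by_contra hl
    obtain ⟨u, hu1, -, hu2⟩ : ∃ u : Kˣ, True ∧ True ∧ (u : K) ^ 2 ≠ 1 := by
      obtain ⟨c, h1, h2⟩ := Twist.exists_sq_ne_one (K := K) (by
        rw [hK]; exact le_trans (by norm_num) (Nat.pow_le_pow_left (Twist.two_le_of_isPrimePow hq) 3))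
      exact ⟨Units.mk0 c h1, trivial, trivial, h2⟩
    have hnm : nm hq hK (u : K) ≠ 0 := fun e => by
      have := congrArg Subtype.val e
      simp [nm] at this
    let c : (Fx hq hK)ˣ := Units.mk0 _ hnm
    have hzL : ρ (gh hq hK u c) v ∈ L := by
      refine ⟨?_, ?_⟩
      · have := gh_map u c hv.1
        rwa [show nm hq hK (u : K) / (c : Fx hq hK) = 1 from div_self hnm, div_one, zero_div] at this
      · have := map_eig (y := gc hq hK) (w := wC hq hK u) (by simp [wC]) (hC hq hK u c) hv.2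
        rwa [zero_div] at this
    have hw : wB hq hK u c = (u : K) ^ 2 := by
      show (u : K) * ((nm hq hK (u : K) : Fx hq hK) : K) / _ = _
      simp only [nm]
      field_simp
    have hz2 := map_eig (y := gb hq hK) (w := wB hq hK u c) (by simp [hw]) (hB hq hK u c) (hLB hv)
    have hne : lB / wB hq hK u c ≠ lB := fun e => by
      rw [hw, div_eq_iff (by simp)] at e
      exact hu2 (mul_left_cancel₀ hl (e.symm.trans (mul_one lB).symm))
    have h1 := proj_of_mem ρ (gb hq hK) hψK (l := lB) (hLB hzL)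
    rw [if_pos rfl, proj_of_mem ρ (gb hq hK) hψK hz2, if_neg hne.symm] at h1
    exact hv0 (map_injective _ (h1.symm.trans (map_zero _).symm))
  obtain ⟨t, ht⟩ := nm_surjective hq hK β
  obtain ⟨⟨h23, h22⟩, hC⟩ := hv
  have hB0 := (mem_eig_zero _ _ _).1 (hlB0 ▸ hLB ⟨⟨h23, h22⟩, hC⟩)
  set w := ρ (ga hq hK t) v
  have hw14 : w ∈ eig ρ ψ (x14 hq hK) 0 := (mem_eig_zero _ _ _).2 fun c => by
    show ρ (x14 hq hK c) (ρ (ga hq hK t) v) = _
    rw [← Module.End.mul_apply, ← map_mul, x14_ga]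
    simp only [map_mul, Module.End.mul_apply, h23 _, map_smul, h22 _, (mem_eig_zero _ _ _).1 hC, hB0,
      hL14 ⟨⟨h23, h22⟩, hC⟩ c, smul_smul, ← AddChar.map_add_eq_mul, ht]
    rw [show (_ + _ : Fx hq hK) = 0 by ring, AddChar.map_zero_eq_one, one_smul]
  have hw23 : w ∈ eig ρ ψ (x23 hq hK) 0 := map_comm (fun u => x23_comm_ga hq hK u t) h23
  have hz : ρ (gm hq hK) w ∈ W hq hK ρ ψ 0 0 := by
    refine ⟨map_comm (fun u => (gm_x23 hq hK u).symm) hw23, (mem_eig_zero _ _ _).2 fun u => ?_⟩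
    have e := gm_x14 hq hK (-u)
    rw [neg_neg] at e
    rw [← Module.End.mul_apply, ← map_mul, ← e, map_mul, Module.End.mul_apply,
      (mem_eig_zero _ _ _).1 hw14 _]
  rw [h00, Submodule.mem_bot] at hz
  exact hv0 (map_injective (ga hq hK t) ((map_injective _ (hz.trans (map_zero _).symm)).trans (map_zero _).symm))

theorem degree_bound [ρ.IsIrreducible] (hk : 2 ≤ finrank ℂ V) :
    q * (q ^ 4 - q ^ 2 + 1) ≤ finrank ℂ V := by
  classical
  have := Fintype.ofFinite (Fx hq hK)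
  obtain ⟨ψ, hψ⟩ := exists_primitive hq hK
  have hψK := primitive_trace hq hK hψ
  have hq2 := Twist.two_le_of_isPrimePow hq
  have htot := finrank_total (ρ := ρ) hψ
  have ha : ∀ l n : Fx hq hK, n ≠ 0 → ∀ m,
      finrank ℂ (W hq hK ρ ψ 0 1) = q ^ 3 * finrank ℂ (WC hq hK ρ ψ l n m) := fun l n hn m =>
    (finrank_pair (Or.inr hn)).symm.trans (finrank_C hψ hn m)
  have hpos := plane_pos (ρ := ρ) hk hψ
  have he1 : ∀ l n : Fx hq hK, n ≠ 0 → finrank ℂ (WC hq hK ρ ψ l n 0) = finrank ℂ (WC hq hK ρ ψ 0 1 0) := by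
    intro l n hn
    exact Nat.eq_of_mul_eq_mul_left (by positivity) ((ha l n hn 0).symm.trans (ha 0 1 one_ne_zero 0))
  set e := finrank ℂ (WC hq hK ρ ψ 0 1 0) with he
  set f := finrank ℂ (W hq hK ρ ψ 0 0) with hf
  rw [ha 0 1 one_ne_zero 0] at htot hpos
  rw [← he] at htot hpos
  obtain ⟨r, hr⟩ : ∃ r, q ^ 4 = q ^ 2 + r :=
    Nat.exists_eq_add_of_le (Nat.pow_le_pow_right (by omega) (by norm_num))
  rw [hr, Nat.add_sub_cancel_left]
  have h5 : q ^ 5 = q ^ 3 + q * r := by rw [pow_succ' q 4, hr]; ring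
  have h5' : q * q * (q ^ 3 * e) = q ^ 3 * e + q * r * e := by
    calc q * q * (q ^ 3 * e) = q ^ 5 * e := by ring
      _ = _ := by rw [h5]; ring
  rw [mul_add, mul_one]
  rw [h5'] at htot
  have hepos : 1 ≤ e := Nat.pos_of_ne_zero fun h0 => by simp [h0] at hpos
  rcases Nat.lt_or_ge e 2 with he2 | he2
  swap
  · have hr1 : q ≤ q * r := Nat.le_mul_of_pos_right q (by nlinarith)
    have : q * r * 2 ≤ q * r * e := Nat.mul_le_mul_left _ he2
    omega
  have he1' : e = 1 := by omega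
  rw [he1', mul_one, mul_one] at htot
  suffices hfq : q ≤ f by omega
  -- the fixed space of the plane
  have hh : ∀ u : Kˣ, ∀ v ∈ W hq hK ρ ψ 0 0, ρ (gh hq hK u 1) v ∈ W hq hK ρ ψ 0 0 := fun u v hv => by
    simpa using gh_map u 1 hv
  set T := W hq hK ρ ψ 0 0 with hT
  have hbig : ∀ (y : AddChar K (Gd hq hK)) (hy : Stable ρ y T) (w : Kˣ → K) (hw : ∀ u, w u ≠ 0)
      (hfib : ∀ u v, w u = w v → u = v ∨ u = -v)
      (hconj : ∀ u t, y (w u * t) * gh hq hK u 1 = gh hq hK u 1 * y t),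
      ¬ T ≤ eig ρ (psiK hq hK ψ) y 0 → q ≤ f := by
    intro y hy w hw hfib hconj hnot
    obtain ⟨l, hl, hne⟩ : ∃ l, l ≠ 0 ∧ T ⊓ eig ρ (psiK hq hK ψ) y l ≠ ⊥ := by
      by_contra h
      push Not at h
      exact hnot (le_eig_zero hψK hy h)
    exact orbit_le hh hψ y hy w hw hfib hconj hl hne
  by_cases hTA : T ≤ eig ρ (psiK hq hK ψ) (ga hq hK) 0
  swap
  · exact hbig _ (stableA 0 0) (fun u => wA hq hK u 1) (fun u => by simp [wA]) (wA_fibre hq hK)
      (fun u t => hA hq hK u 1 t) hTA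
  -- the orbit of the long root group
  set e14 := finrank ℂ ↥(T ⊓ eig ρ ψ (x14 hq hK) 1) with he14
  have h14eq : ∀ l, l ≠ 0 → finrank ℂ ↥(T ⊓ eig ρ ψ (x14 hq hK) l) = e14 := by
    have hmv : ∀ l l' : Fx hq hK, l ≠ 0 → l' ≠ 0 → finrank ℂ ↥(T ⊓ eig ρ ψ (x14 hq hK) l) ≤
        finrank ℂ ↥(T ⊓ eig ρ ψ (x14 hq hK) l') := by
      intro l l' hl hl'
      have hc : l' / l ≠ 0 := div_ne_zero hl' hl
      set c : (Fx hq hK)ˣ := Units.mk0 _ hc
      have hc' : ((c : Fx hq hK) : K) ≠ 0 := fun h => hc (Subtype.ext h)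
      let u : Kˣ := Units.mk0 _ hc'
      have hn : nm hq hK (u : K) = (c : Fx hq hK) ^ 3 := Subtype.ext (by
        show ((c : Fx hq hK) : K) * (σ ((c : Fx hq hK) : K) * σ (σ ((c : Fx hq hK) : K))) = _
        simp only [fx_eq, SubmonoidClass.coe_pow]
        ring)
      refine finrank_le_of_map (ρ := ρ) (gh hq hK u c) fun v hv => ⟨?_, ?_⟩
      · simpa using gh_map u c hv.1
      · have := map_eig (y := x14 hq hK) (w := ((c : Fx hq hK) ^ 2 / nm hq hK (u : K)))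
          (by rw [hn]; simp) (w14 hq hK u c) hv.2
        rwa [hn, div_div_eq_mul_div, show l * (c : Fx hq hK) ^ 3 / (c : Fx hq hK) ^ 2 = l' by
          show l * (l' / l) ^ 3 / (l' / l) ^ 2 = l'
          field_simp] at this
    exact fun l hl => le_antisymm (hmv l 1 hl one_ne_zero) (hmv 1 l one_ne_zero hl)
  have hsum : f = finrank ℂ ↥(T ⊓ eig ρ ψ (x14 hq hK) 0) + (q - 1) * e14 := by
    have hcard : Fintype.card (Fx hq hK) = q := by rw [← Nat.card_eq_fintype_card]; exact card_Fx hq hK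
    rw [hf, finrank_eq_sum hψ (stable14 0), ← Finset.add_sum_erase Finset.univ _ (Finset.mem_univ (0 : Fx hq hK)),
      Finset.sum_congr rfl fun l (hl : l ∈ Finset.univ.erase 0) => h14eq l (Finset.ne_of_mem_erase hl),
      Finset.sum_const, Finset.card_erase_of_mem (Finset.mem_univ _), Finset.card_univ, hcard, smul_eq_mul]
  rcases Nat.eq_zero_or_pos e14 with h0 | h1
  · have h14 : T ≤ eig ρ ψ (x14 hq hK) 0 := le_eig_zero hψ (stable14 0) fun l hl =>
      Submodule.finrank_eq_zero.1 ((h14eq l hl).trans h0)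
    exact absurd (fixed_eq_bot hk hTA h14)
      (exists_fixed hψ (he.symm.trans he1') ((he1 0 (-1) (neg_ne_zero.2 one_ne_zero)).trans he1'))
  rcases Nat.lt_or_ge f q with hlt | hge
  swap
  · exact hge
  exfalso
  have hone : e14 = 1 := by
    by_contra hne
    have : (q - 1) * 2 ≤ (q - 1) * e14 := Nat.mul_le_mul_left _ (by omega)
    omega
  rw [hone, mul_one] at hsum
  refine not_dvd hq2 (k := finrank ℂ V) ?_ (card_Gd (hq := hq) (hK := hK) ▸ Char.finrank_dvd_card ρ)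
  omega

end CfsgLib.KnownA.MinDegD4
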