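import Cfsg.Agent.Lib.KnownA.MinDegD4.Field

/-!
A representation of ³D₄(q) on the plane of two long root groups: the eigenspaces and their moves.
-/

set_option autoImplicit false
set_option maxRecDepth 20000

namespace CfsgLib.KnownA.MinDegD4

open CfsgLib.Chevalley CfsgLib.Chevalley.Tbl CfsgLib.KnownA.D4Sub CfsgLib.KnownA.MinDeg
open Module (finrank)

variable {K : Type*} [Field K] [Fintype K] {q : ℕ} (hq : IsPrimePow q) (hK : Nat.card K = q ^ 3)
variable {V : Type*} [AddCommGroup V] [Module ℂ V]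
variable (ρ : Representation ℂ (Gd hq hK) V) (ψ : AddChar (Fx hq hK) ℂ)

local notation "σ" => Twist.D4.fq hq hK

/-- The character of the big field. -/
noncomputable def psiK : AddChar K ℂ := ψ.compAddMonoidHom (trHom hq hK)

/-- The eigenspaces of the root plane. -/
noncomputable def W (l n : Fx hq hK) : Submodule ℂ V := eig ρ ψ (x23 hq hK) n ⊓ eig ρ ψ (x22 hq hK) l

/-- The eigenspaces of the highest short root inside them. -/
noncomputable def WC (l n : Fx hq hK) (m : K) : Submodule ℂ V :=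
  W hq hK ρ ψ l n ⊓ eig ρ (psiK hq hK ψ) (gc hq hK) m

variable {hq hK ρ ψ}

theorem map_comm {R : Type*} [Field R] {χ : AddChar R ℂ} {x : AddChar R (Gd hq hK)} {g : Gd hq hK}
    (h : ∀ t, x t * g = g * x t) {l : R} {v : V} (hv : v ∈ eig ρ χ x l) : ρ g v ∈ eig ρ χ x l := by
  simpa using map_eig (y := x) (w := (1 : R)) one_ne_zero (fun t => by rw [one_mul]; exact h t) hv

theorem gc_shift {l n : Fx hq hK} {m s : K} {v : V} (hv : v ∈ WC hq hK ρ ψ l n m) :
    ρ (gb hq hK s) v ∈ WC hq hK ρ ψ l n (m - (n : K) * σ (σ s)) := by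
  obtain ⟨⟨h23, h22⟩, hC⟩ := hv
  refine ⟨⟨map_comm (fun t => x23_comm_gb hq hK t s) h23, map_comm (fun t => x22_comm_gb hq hK t s) h22⟩,
    fun t => ?_⟩
  rw [← Module.End.mul_apply, ← map_mul, gc_gb, map_mul, Module.End.mul_apply, map_mul,
    Module.End.mul_apply, h23, map_smul, hC, smul_smul, map_smul]
  congr 1
  show ψ (n * -tr hq hK (s * σ t)) * ψ (tr hq hK (m * t)) = ψ (tr hq hK ((m - (n : K) * σ (σ s)) * t))
  rw [← AddChar.map_add_eq_mul]
  congr 1
  have e1 : tr hq hK (s * σ t) = tr hq hK (σ (σ s) * t) := by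
    rw [← tr_shift hq hK (s * σ t), map_mul, map_mul, h3 hq hK]
  rw [e1, sub_mul, show tr hq hK (m * t - (n : K) * σ (σ s) * t) =
    tr hq hK (m * t) - tr hq hK ((n : K) * σ (σ s) * t) from map_sub (trHom hq hK) _ _,
    mul_assoc ((n : K)), tr_smul]
  ring

theorem shift14 {l n : Fx hq hK} {v : V} (c : Fx hq hK) (hv : v ∈ W hq hK ρ ψ l n) :
    ρ (x14 hq hK c) v ∈ W hq hK ρ ψ (l - n * c) n := by
  obtain ⟨h23, h22⟩ := hv
  refine ⟨map_comm (fun t => x23_comm_long hq hK _ _ (by norm_num) t c) h23, fun u => ?_⟩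
  rw [← Module.End.mul_apply, ← map_mul, x22_x14, map_mul, Module.End.mul_apply, map_mul,
    Module.End.mul_apply, h23, map_smul, h22, smul_smul, map_smul]
  congr 1
  rw [← AddChar.map_add_eq_mul]
  congr 1
  ring

theorem gn_map {l n : Fx hq hK} {v : V} (hv : v ∈ W hq hK ρ ψ l n) :
    ρ (gn hq hK) v ∈ W hq hK ρ ψ (-n) l := by
  obtain ⟨h23, h22⟩ := hv
  refine ⟨?_, ?_⟩
  · simpa using map_eig (y := x23 hq hK) (w := (1 : Fx hq hK)) one_ne_zero
      (fun t => by rw [one_mul]; exact (gn_x22 hq hK t).symm) h22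
  · have := map_eig (y := x22 hq hK) (w := (-1 : Fx hq hK)) (neg_ne_zero.2 one_ne_zero)
      (fun t => by rw [neg_one_mul]; exact (gn_x23 hq hK t).symm) h23
    rwa [div_neg, div_one] at this

theorem gh_map (u : Kˣ) (c : (Fx hq hK)ˣ) {l n : Fx hq hK} {v : V} (hv : v ∈ W hq hK ρ ψ l n) :
    ρ (gh hq hK u c) v ∈ W hq hK ρ ψ (l / (nm hq hK u / c)) (n / c) := by
  obtain ⟨h23, h22⟩ := hv
  refine ⟨map_eig c.ne_zero (w23 hq hK u c) h23, map_eig (div_ne_zero ?_ c.ne_zero) (w22 hq hK u c) h22⟩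
  intro e
  have := congrArg Subtype.val e
  simp [nm] at this

theorem gh_map_one (c : (Fx hq hK)ˣ) {l n : Fx hq hK} {v : V} (hv : v ∈ W hq hK ρ ψ l n) :
    ρ (gh hq hK 1 c) v ∈ W hq hK ρ ψ (l * c) (n / c) := by
  have h1 : nm hq hK ((1 : Kˣ) : K) = 1 := Subtype.ext (by simp [nm])
  have := gh_map 1 c hv
  rwa [h1, one_div, div_inv_eq_mul] at this

theorem stable_top {R : Type*} [Field R] (x : AddChar R (Gd hq hK)) : Stable ρ x (⊤ : Submodule ℂ V) :=
  fun _ _ _ => trivial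

theorem stable23 (n : Fx hq hK) : Stable ρ (x22 hq hK) (eig ρ ψ (x23 hq hK) n) := fun c v hv =>
  map_comm (fun t => x23_comm_long hq hK _ _ (by norm_num) t c) hv

theorem stableC (l n : Fx hq hK) : Stable ρ (gc hq hK) (W hq hK ρ ψ l n) := fun t v hv =>
  ⟨map_comm (fun c => x23_comm_gc hq hK c t) hv.1, map_comm (fun c => x22_comm_gc hq hK c t) hv.2⟩

theorem stableB (l n : Fx hq hK) : Stable ρ (gb hq hK) (W hq hK ρ ψ l n) := fun t v hv =>
  ⟨map_comm (fun c => x23_comm_gb hq hK c t) hv.1, map_comm (fun c => x22_comm_gb hq hK c t) hv.2⟩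

theorem stableA (l n : Fx hq hK) : Stable ρ (ga hq hK) (W hq hK ρ ψ l n) := fun t v hv =>
  ⟨map_comm (fun c => x23_comm_ga hq hK c t) hv.1, map_comm (fun c => x22_comm_ga hq hK c t) hv.2⟩

theorem stable14 (l : Fx hq hK) : Stable ρ (x14 hq hK) (W hq hK ρ ψ l 0) := fun c v hv => by
  simpa using shift14 c hv

variable [FiniteDimensional ℂ V]

theorem finrank_shift {l n : Fx hq hK} (hn : n ≠ 0) (l' : Fx hq hK) :
    finrank ℂ (W hq hK ρ ψ l n) = finrank ℂ (W hq hK ρ ψ l' n) := by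
  have h : ∀ l l', finrank ℂ (W hq hK ρ ψ l n) ≤ finrank ℂ (W hq hK ρ ψ l' n) := fun l l' =>
    finrank_le_of_map (ρ := ρ) (x14 hq hK ((l - l') / n)) fun v hv => by
      have := shift14 ((l - l') / n) hv
      rwa [mul_div_cancel₀ _ hn, sub_sub_cancel] at this
  exact le_antisymm (h l l') (h l' l)

theorem finrank_pair {l n : Fx hq hK} (h : l ≠ 0 ∨ n ≠ 0) :
    finrank ℂ (W hq hK ρ ψ l n) = finrank ℂ (W hq hK ρ ψ 0 1) := by
  have hsc : ∀ n n' : Fx hq hK, n ≠ 0 → n' ≠ 0 →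
      finrank ℂ (W hq hK ρ ψ 0 n) ≤ finrank ℂ (W hq hK ρ ψ 0 n') := fun n n' hn hn' =>
    finrank_le_of_map (ρ := ρ) (gh hq hK 1 (Units.mk0 (n / n') (div_ne_zero hn hn'))) fun v hv => by
      have := gh_map_one (Units.mk0 (n / n') (div_ne_zero hn hn')) hv
      rwa [zero_mul, Units.val_mk0, div_div_cancel₀ hn] at this
  have hne : ∀ l n : Fx hq hK, n ≠ 0 → finrank ℂ (W hq hK ρ ψ l n) = finrank ℂ (W hq hK ρ ψ 0 1) :=
    fun l n hn => (finrank_shift hn 0).trans (le_antisymm (hsc n 1 hn one_ne_zero) (hsc 1 n one_ne_zero hn))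
  by_cases hn : n = 0
  · subst hn
    have hl : l ≠ 0 := h.resolve_right (fun e => e rfl)
    have h1 : finrank ℂ (W hq hK ρ ψ l 0) ≤ finrank ℂ (W hq hK ρ ψ (-0) l) :=
      finrank_le_of_map _ fun v hv => gn_map hv
    have h2 : finrank ℂ (W hq hK ρ ψ 0 (-l)) ≤ finrank ℂ (W hq hK ρ ψ (-(-l)) 0) :=
      finrank_le_of_map _ fun v hv => gn_map hv
    rw [neg_neg, hne _ _ (neg_ne_zero.2 hl)] at h2
    rw [hne _ _ hl] at h1
    exact le_antisymm h1 h2
  · exact hne l n hn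

theorem finrank_total [Fintype (Fx hq hK)] (hψ : ψ.IsPrimitive) :
    finrank ℂ V + finrank ℂ (W hq hK ρ ψ 0 1) =
      finrank ℂ (W hq hK ρ ψ 0 0) + q * q * finrank ℂ (W hq hK ρ ψ 0 1) := by
  classical
  have hcard : Fintype.card (Fx hq hK) = q := by rw [← Nat.card_eq_fintype_card]; exact card_Fx hq hK
  have h : finrank ℂ V = ∑ n : Fx hq hK, ∑ l : Fx hq hK, finrank ℂ (W hq hK ρ ψ l n) := by
    rw [← finrank_top ℂ V, finrank_eq_sum hψ (stable_top (x23 hq hK))]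
    refine Finset.sum_congr rfl fun n _ => ?_
    rw [top_inf_eq, finrank_eq_sum hψ (stable23 n)]
    rfl
  rw [h, ← Finset.add_sum_erase Finset.univ _ (Finset.mem_univ (0 : Fx hq hK)),
    ← Finset.add_sum_erase Finset.univ _ (Finset.mem_univ (0 : Fx hq hK)),
    Finset.sum_congr rfl fun l (hl : l ∈ Finset.univ.erase 0) => finrank_pair (Or.inl (Finset.ne_of_mem_erase hl)),
    Finset.sum_congr rfl fun n (hn : n ∈ Finset.univ.erase 0) =>
      Finset.sum_congr rfl fun l (_ : l ∈ Finset.univ) => finrank_pair (Or.inr (Finset.ne_of_mem_erase hn))]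
  simp only [Finset.sum_const, Finset.card_erase_of_mem (Finset.mem_univ _), Finset.card_univ, hcard, smul_eq_mul]
  obtain ⟨r, rfl⟩ := Nat.exists_eq_add_of_le' (Twist.two_le_of_isPrimePow hq)
  rw [show r + 2 - 1 = r + 1 by omega]
  ring

theorem finrank_C (hψ : ψ.IsPrimitive) {l n : Fx hq hK} (hn : n ≠ 0) (m : K) :
    finrank ℂ (W hq hK ρ ψ l n) = q ^ 3 * finrank ℂ (WC hq hK ρ ψ l n m) := by
  classical
  have hle : ∀ m m', finrank ℂ (WC hq hK ρ ψ l n m) ≤ finrank ℂ (WC hq hK ρ ψ l n m') := by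
    intro m m'
    have hn' : (n : K) ≠ 0 := fun e => hn (Subtype.ext e)
    refine finrank_le_of_map (ρ := ρ) (gb hq hK (σ ((m - m') / (n : K)))) fun v hv => ?_
    have := gc_shift (s := σ ((m - m') / (n : K))) hv
    rwa [h3 hq hK, mul_div_cancel₀ _ hn', sub_sub_cancel] at this
  rw [finrank_eq_sum (primitive_trace hq hK hψ) (stableC l n),
    Finset.sum_congr rfl fun m' (_ : m' ∈ Finset.univ) =>
      show finrank ℂ ↥(W hq hK ρ ψ l n ⊓ eig ρ (ψ.compAddMonoidHom (trHom hq hK)) (gc hq hK) m') =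
        finrank ℂ (WC hq hK ρ ψ l n m) from le_antisymm (hle m' m) (hle m m')]
  rw [Finset.sum_const, Finset.card_univ, smul_eq_mul, ← Nat.card_eq_fintype_card, hK]

end CfsgLib.KnownA.MinDegD4
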