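import Cfsg.Agent.Lib.KnownA.D4Sub.Shape
import Cfsg.Agent.Lib.KnownA.MinDeg.Eigen

/-!
Relations between root elements, reflections and torus elements of ³D₄(q), inside the group.
-/

set_option autoImplicit false
set_option maxRecDepth 20000
set_option maxHeartbeats 4000000
set_option linter.unusedSimpArgs false
set_option Elab.async false

namespace CfsgLib.KnownA.MinDegD4

open CfsgLib.Chevalley CfsgLib.Chevalley.Tbl CfsgLib.KnownA.D4Sub

variable {K : Type*} [Field K] [Finite K] {q : ℕ} (hq : IsPrimePow q) (hK : Nat.card K = q ^ 3)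

local notation "TT" => Data.D4.tbl
local notation "xx" => Data.D4.tbl.xU K
local notation "σ" => Twist.D4.fq hq hK
local notation "SS" => AbSetup.S (Twist.D4.setup hq hK)

/-- The twisted group. -/
abbrev Gd : Type _ := ↥(AbSetup.S (Twist.D4.setup hq hK)).fix

/-- The fixed field. -/
noncomputable def Fx : Subfield K := RingHom.eqLocusField (Twist.D4.fq hq hK).toRingHom (RingHom.id K)

theorem mem_Fx {c : K} : c ∈ Fx hq hK ↔ σ c = c := Iff.rfl

theorem fx_eq (c : Fx hq hK) : σ (c : K) = c := c.2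

theorem card_Fx : Nat.card (Fx hq hK) = q := card_fix hq hK

/-- The root elements of a fixed root. -/
noncomputable def long (r : ℕ) (hr : r < 24) (hρ : Data.D4.graph.ρ r = r) : AddChar (Fx hq hK) (Gd hq hK) where
  toFun c := ⟨xx r c, (long_fix hq hK hr hρ c.2).1⟩
  map_zero_eq_one' := Subtype.ext (x_zero hr)
  map_add_eq_mul' a b := Subtype.ext (x_add hr (a : K) (b : K)).symm

/-- The long fundamental root. -/
noncomputable abbrev x14 := long hq hK 14 (by norm_num) (by decide +kernel)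
/-- Its negative. -/
noncomputable abbrev x9 := long hq hK 9 (by norm_num) (by decide +kernel)
/-- The second highest root. -/
noncomputable abbrev x22 := long hq hK 22 (by norm_num) (by decide +kernel)
/-- The highest root. -/
noncomputable abbrev x23 := long hq hK 23 (by norm_num) (by decide +kernel)

theorem long_val {r : ℕ} (hr : r < 24) (hρ : Data.D4.graph.ρ r = r) (c : Fx hq hK) :
    ((long hq hK r hr hρ c : Gd hq hK) : GL (TT).I K) = xx r c := rfl

theorem A_add (s t : K) : D4Sub.A hq hK (s + t) = D4Sub.A hq hK s * D4Sub.A hq hK t := by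
  simp only [D4Sub.A, map_add]
  simp (discharger := omega) only [mul_assoc, sw_13_12, sw_13_12', sw_14_12, sw_14_12', sw_14_13, sw_14_13', sw_15_12, sw_15_12', sw_15_13, sw_15_13', sw_15_14, sw_15_14', sw_16_12, sw_16_12', sw_16_13, sw_16_13', sw_16_14, sw_16_14', sw_16_15, sw_16_15', sw_17_12, sw_17_12', sw_17_13, sw_17_13', sw_17_14, sw_17_14', sw_17_15, sw_17_15', sw_17_16, sw_17_16', sw_18_12, sw_18_12', sw_18_13, sw_18_13', sw_18_14, sw_18_14', sw_18_15, sw_18_15', sw_18_16, sw_18_16', sw_18_17, sw_18_17', sw_19_12, sw_19_12', sw_19_13, sw_19_13', sw_19_14, sw_19_14', sw_19_15, sw_19_15', sw_19_16, sw_19_16', sw_19_17, sw_19_17', sw_19_18, sw_19_18', sw_20_12, sw_20_12', sw_20_13, sw_20_13', sw_20_14, sw_20_14', sw_20_15, sw_20_15', sw_20_16, sw_20_16', sw_20_17, sw_20_17', sw_20_18, sw_20_18', sw_20_19, sw_20_19', sw_21_12, sw_21_12', sw_21_13, sw_21_13', sw_21_14, sw_21_14', sw_21_15, sw_21_15', sw_21_16, sw_21_16', sw_21_17,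 sw_21_17', sw_21_18, sw_21_18', sw_21_19, sw_21_19', sw_21_20, sw_21_20', sw_22_12, sw_22_12', sw_22_13, sw_22_13', sw_22_14, sw_22_14', sw_22_15, sw_22_15', sw_22_16, sw_22_16', sw_22_17, sw_22_17', sw_22_18, sw_22_18', sw_22_19, sw_22_19', sw_22_20, sw_22_20', sw_22_21, sw_22_21', sw_23_12, sw_23_12', sw_23_13, sw_23_13', sw_23_14, sw_23_14', sw_23_15, sw_23_15', sw_23_16, sw_23_16', sw_23_17, sw_23_17', sw_23_18, sw_23_18', sw_23_19, sw_23_19', sw_23_20, sw_23_20', sw_23_21, sw_23_21', sw_23_22, sw_23_22', x_add, x_add', x_zero, neg_mul, mul_neg, neg_neg]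

theorem B_add (s t : K) : B hq hK (s + t) = B hq hK s * B hq hK t := by
  simp only [B, map_add, neg_add]
  simp (discharger := omega) only [mul_assoc, sw_13_12, sw_13_12', sw_14_12, sw_14_12', sw_14_13, sw_14_13', sw_15_12, sw_15_12', sw_15_13, sw_15_13', sw_15_14, sw_15_14', sw_16_12, sw_16_12', sw_16_13, sw_16_13', sw_16_14, sw_16_14', sw_16_15, sw_16_15', sw_17_12, sw_17_12', sw_17_13, sw_17_13', sw_17_14, sw_17_14', sw_17_15, sw_17_15', sw_17_16, sw_17_16', sw_18_12, sw_18_12', sw_18_13, sw_18_13', sw_18_14, sw_18_14', sw_18_15, sw_18_15', sw_18_16, sw_18_16', sw_18_17, sw_18_17', sw_19_12, sw_19_12', sw_19_13, sw_19_13', sw_19_14, sw_19_14', sw_19_15, sw_19_15', sw_19_16, sw_19_16', sw_19_17, sw_19_17', sw_19_18, sw_19_18', sw_20_12, sw_20_12', sw_20_13, sw_20_13', sw_20_14, sw_20_14', sw_20_15, sw_20_15', sw_20_16, sw_20_16', sw_20_17, sw_20_17', sw_20_18, sw_20_18', sw_20_19, sw_20_19', sw_21_12, sw_21_12', sw_21_13,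 sw_21_13', sw_21_14, sw_21_14', sw_21_15, sw_21_15', sw_21_16, sw_21_16', sw_21_17, sw_21_17', sw_21_18, sw_21_18', sw_21_19, sw_21_19', sw_21_20, sw_21_20', sw_22_12, sw_22_12', sw_22_13, sw_22_13', sw_22_14, sw_22_14', sw_22_15, sw_22_15', sw_22_16, sw_22_16', sw_22_17, sw_22_17', sw_22_18, sw_22_18', sw_22_19, sw_22_19', sw_22_20, sw_22_20', sw_22_21, sw_22_21', sw_23_12, sw_23_12', sw_23_13, sw_23_13', sw_23_14, sw_23_14', sw_23_15, sw_23_15', sw_23_16, sw_23_16', sw_23_17, sw_23_17', sw_23_18, sw_23_18', sw_23_19, sw_23_19', sw_23_20, sw_23_20', sw_23_21, sw_23_21', sw_23_22, sw_23_22', x_add, x_add', x_zero, neg_mul, mul_neg, neg_neg]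

theorem C_add (s t : K) : C hq hK (s + t) = C hq hK s * C hq hK t := by
  simp only [C, map_add, neg_add]
  simp (discharger := omega) only [mul_assoc, sw_13_12, sw_13_12', sw_14_12, sw_14_12', sw_14_13, sw_14_13', sw_15_12, sw_15_12', sw_15_13, sw_15_13', sw_15_14, sw_15_14', sw_16_12, sw_16_12', sw_16_13, sw_16_13', sw_16_14, sw_16_14', sw_16_15, sw_16_15', sw_17_12, sw_17_12', sw_17_13, sw_17_13', sw_17_14, sw_17_14', sw_17_15, sw_17_15', sw_17_16, sw_17_16', sw_18_12, sw_18_12', sw_18_13, sw_18_13', sw_18_14, sw_18_14', sw_18_15, sw_18_15', sw_18_16, sw_18_16', sw_18_17, sw_18_17', sw_19_12, sw_19_12', sw_19_13, sw_19_13', sw_19_14, sw_19_14', sw_19_15, sw_19_15', sw_19_16, sw_19_16', sw_19_17, sw_19_17', sw_19_18, sw_19_18', sw_20_12, sw_20_12', sw_20_13, sw_20_13', sw_20_14, sw_20_14', sw_20_15, sw_20_15', sw_20_16, sw_20_16', sw_20_17, sw_20_17', sw_20_18, sw_20_18', sw_20_19, sw_20_19', sw_21_12, sw_21_12', sw_21_13,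 sw_21_13', sw_21_14, sw_21_14', sw_21_15, sw_21_15', sw_21_16, sw_21_16', sw_21_17, sw_21_17', sw_21_18, sw_21_18', sw_21_19, sw_21_19', sw_21_20, sw_21_20', sw_22_12, sw_22_12', sw_22_13, sw_22_13', sw_22_14, sw_22_14', sw_22_15, sw_22_15', sw_22_16, sw_22_16', sw_22_17, sw_22_17', sw_22_18, sw_22_18', sw_22_19, sw_22_19', sw_22_20, sw_22_20', sw_22_21, sw_22_21', sw_23_12, sw_23_12', sw_23_13, sw_23_13', sw_23_14, sw_23_14', sw_23_15, sw_23_15', sw_23_16, sw_23_16', sw_23_17, sw_23_17', sw_23_18, sw_23_18', sw_23_19, sw_23_19', sw_23_20, sw_23_20', sw_23_21, sw_23_21', sw_23_22, sw_23_22', x_add, x_add', x_zero, neg_mul, mul_neg, neg_neg]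

/-- The root elements of the fundamental short root. -/
noncomputable def ga : AddChar K (Gd hq hK) where
  toFun t := ⟨D4Sub.A hq hK t, A_fix hq hK t⟩
  map_zero_eq_one' := Subtype.ext (by simp [D4Sub.A, x_zero])
  map_add_eq_mul' s t := Subtype.ext (A_add hq hK s t)

/-- The root elements of the second short root. -/
noncomputable def gb : AddChar K (Gd hq hK) where
  toFun t := ⟨B hq hK t, B_fix hq hK t⟩
  map_zero_eq_one' := Subtype.ext (by simp [B, x_zero])
  map_add_eq_mul' s t := Subtype.ext (B_add hq hK s t)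

/-- The root elements of the highest short root. -/
noncomputable def gc : AddChar K (Gd hq hK) where
  toFun t := ⟨C hq hK t, C_fix hq hK t⟩
  map_zero_eq_one' := Subtype.ext (by simp [C, x_zero])
  map_add_eq_mul' s t := Subtype.ext (C_add hq hK s t)

theorem ga_val (t : K) : ((ga hq hK t : Gd hq hK) : GL (TT).I K) = D4Sub.A hq hK t := rfl
theorem gb_val (t : K) : ((gb hq hK t : Gd hq hK) : GL (TT).I K) = B hq hK t := rfl
theorem gc_val (t : K) : ((gc hq hK t : Gd hq hK) : GL (TT).I K) = C hq hK t := rfl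

/-- The trace to the fixed field. -/
noncomputable def tr (x : K) : Fx hq hK :=
  ⟨x + (σ x + σ (σ x)), (mem_Fx hq hK).2 (by rw [map_add, map_add, h3 hq hK]; ring)⟩

/-- The norm to the fixed field. -/
noncomputable def nm (x : K) : Fx hq hK := ⟨x * (σ x * σ (σ x)), (mem_Fx hq hK).2 (norm_fix x)⟩

theorem x22_comm_ga (c : Fx hq hK) (t : K) : x22 hq hK c * ga hq hK t = ga hq hK t * x22 hq hK c :=
  Subtype.ext (show xx 22 c * D4Sub.A hq hK t = D4Sub.A hq hK t * xx 22 c by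
    simp only [D4Sub.A]
    simp (discharger := omega) only [mul_assoc, sw_13_12, sw_13_12', sw_14_12, sw_14_12', sw_14_13, sw_14_13', sw_15_12, sw_15_12', sw_15_13, sw_15_13', sw_15_14, sw_15_14', sw_16_12, sw_16_12', sw_16_13, sw_16_13', sw_16_14, sw_16_14', sw_16_15, sw_16_15', sw_17_12, sw_17_12', sw_17_13, sw_17_13', sw_17_14, sw_17_14', sw_17_15, sw_17_15', sw_17_16, sw_17_16', sw_18_12, sw_18_12', sw_18_13, sw_18_13', sw_18_14, sw_18_14', sw_18_15, sw_18_15', sw_18_16, sw_18_16', sw_18_17, sw_18_17', sw_19_12, sw_19_12', sw_19_13, sw_19_13', sw_19_14, sw_19_14', sw_19_15, sw_19_15', sw_19_16, sw_19_16', sw_19_17, sw_19_17', sw_19_18, sw_19_18', sw_20_12, sw_20_12', sw_20_13, sw_20_13', sw_20_14, sw_20_14', sw_20_15, sw_20_15', sw_20_16, sw_20_16', sw_20_17, sw_20_17', sw_20_18, sw_20_18', sw_20_19, sw_20_19', sw_21_12, sw_21_12', sw_21_13, sw_21_13', sw_21_14, sw_21_14', sw_21_15, sw_21_15', sw_21_16, sw_21_16', sw_21_17,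 sw_21_17', sw_21_18, sw_21_18', sw_21_19, sw_21_19', sw_21_20, sw_21_20', sw_22_12, sw_22_12', sw_22_13, sw_22_13', sw_22_14, sw_22_14', sw_22_15, sw_22_15', sw_22_16, sw_22_16', sw_22_17, sw_22_17', sw_22_18, sw_22_18', sw_22_19, sw_22_19', sw_22_20, sw_22_20', sw_22_21, sw_22_21', sw_23_12, sw_23_12', sw_23_13, sw_23_13', sw_23_14, sw_23_14', sw_23_15, sw_23_15', sw_23_16, sw_23_16', sw_23_17, sw_23_17', sw_23_18, sw_23_18', sw_23_19, sw_23_19', sw_23_20, sw_23_20', sw_23_21, sw_23_21', sw_23_22, sw_23_22', x_add, x_add', x_zero, neg_mul, mul_neg, neg_neg])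

theorem x22_comm_gb (c : Fx hq hK) (t : K) : x22 hq hK c * gb hq hK t = gb hq hK t * x22 hq hK c :=
  Subtype.ext (show xx 22 c * B hq hK t = B hq hK t * xx 22 c by
    simp only [B]
    simp (discharger := omega) only [mul_assoc, sw_13_12, sw_13_12', sw_14_12, sw_14_12', sw_14_13, sw_14_13', sw_15_12, sw_15_12', sw_15_13, sw_15_13', sw_15_14, sw_15_14', sw_16_12, sw_16_12', sw_16_13, sw_16_13', sw_16_14, sw_16_14', sw_16_15, sw_16_15', sw_17_12, sw_17_12', sw_17_13, sw_17_13', sw_17_14, sw_17_14', sw_17_15, sw_17_15', sw_17_16, sw_17_16', sw_18_12, sw_18_12', sw_18_13, sw_18_13', sw_18_14, sw_18_14', sw_18_15, sw_18_15', sw_18_16, sw_18_16', sw_18_17, sw_18_17', sw_19_12, sw_19_12', sw_19_13, sw_19_13', sw_19_14, sw_19_14', sw_19_15, sw_19_15', sw_19_16, sw_19_16', sw_19_17, sw_19_17', sw_19_18, sw_19_18', sw_20_12, sw_20_12', sw_20_13, sw_20_13', sw_20_14, sw_20_14', sw_20_15, sw_20_15', sw_20_16, sw_20_16', sw_20_17, sw_20_17',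 sw_20_18, sw_20_18', sw_20_19, sw_20_19', sw_21_12, sw_21_12', sw_21_13, sw_21_13', sw_21_14, sw_21_14', sw_21_15, sw_21_15', sw_21_16, sw_21_16', sw_21_17, sw_21_17', sw_21_18, sw_21_18', sw_21_19, sw_21_19', sw_21_20, sw_21_20', sw_22_12, sw_22_12', sw_22_13, sw_22_13', sw_22_14, sw_22_14', sw_22_15, sw_22_15', sw_22_16, sw_22_16', sw_22_17, sw_22_17', sw_22_18, sw_22_18', sw_22_19, sw_22_19', sw_22_20, sw_22_20', sw_22_21, sw_22_21', sw_23_12, sw_23_12', sw_23_13, sw_23_13', sw_23_14, sw_23_14', sw_23_15, sw_23_15', sw_23_16, sw_23_16', sw_23_17, sw_23_17', sw_23_18, sw_23_18', sw_23_19, sw_23_19', sw_23_20, sw_23_20', sw_23_21, sw_23_21', sw_23_22, sw_23_22', x_add, x_add', x_zero, neg_mul, mul_neg, neg_neg])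

theorem x22_comm_gc (c : Fx hq hK) (t : K) : x22 hq hK c * gc hq hK t = gc hq hK t * x22 hq hK c :=
  Subtype.ext (show xx 22 c * C hq hK t = C hq hK t * xx 22 c by
    simp only [C]
    simp (discharger := omega) only [mul_assoc, sw_13_12, sw_13_12', sw_14_12, sw_14_12', sw_14_13, sw_14_13', sw_15_12, sw_15_12', sw_15_13, sw_15_13', sw_15_14, sw_15_14', sw_16_12, sw_16_12', sw_16_13, sw_16_13', sw_16_14, sw_16_14', sw_16_15, sw_16_15', sw_17_12, sw_17_12', sw_17_13, sw_17_13', sw_17_14, sw_17_14', sw_17_15, sw_17_15', sw_17_16, sw_17_16', sw_18_12, sw_18_12', sw_18_13, sw_18_13', sw_18_14, sw_18_14', sw_18_15, sw_18_15', sw_18_16, sw_18_16', sw_18_17, sw_18_17', sw_19_12, sw_19_12', sw_19_13, sw_19_13', sw_19_14, sw_19_14', sw_19_15, sw_19_15', sw_19_16, sw_19_16', sw_19_17, sw_19_17', sw_19_18, sw_19_18', sw_20_12, sw_20_12', sw_20_13, sw_20_13', sw_20_14, sw_20_14', sw_20_15, sw_20_15', sw_20_16, sw_20_16', sw_20_17, sw_20_17',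 sw_20_18, sw_20_18', sw_20_19, sw_20_19', sw_21_12, sw_21_12', sw_21_13, sw_21_13', sw_21_14, sw_21_14', sw_21_15, sw_21_15', sw_21_16, sw_21_16', sw_21_17, sw_21_17', sw_21_18, sw_21_18', sw_21_19, sw_21_19', sw_21_20, sw_21_20', sw_22_12, sw_22_12', sw_22_13, sw_22_13', sw_22_14, sw_22_14', sw_22_15, sw_22_15', sw_22_16, sw_22_16', sw_22_17, sw_22_17', sw_22_18, sw_22_18', sw_22_19, sw_22_19', sw_22_20, sw_22_20', sw_22_21, sw_22_21', sw_23_12, sw_23_12', sw_23_13, sw_23_13', sw_23_14, sw_23_14', sw_23_15, sw_23_15', sw_23_16, sw_23_16', sw_23_17, sw_23_17', sw_23_18, sw_23_18', sw_23_19, sw_23_19', sw_23_20, sw_23_20', sw_23_21, sw_23_21', sw_23_22, sw_23_22', x_add, x_add', x_zero, neg_mul, mul_neg, neg_neg])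

theorem x23_comm_ga (c : Fx hq hK) (t : K) : x23 hq hK c * ga hq hK t = ga hq hK t * x23 hq hK c :=
  Subtype.ext (show xx 23 c * D4Sub.A hq hK t = D4Sub.A hq hK t * xx 23 c by
    simp only [D4Sub.A]
    simp (discharger := omega) only [mul_assoc, sw_13_12, sw_13_12', sw_14_12, sw_14_12', sw_14_13, sw_14_13', sw_15_12, sw_15_12', sw_15_13, sw_15_13', sw_15_14, sw_15_14', sw_16_12, sw_16_12', sw_16_13, sw_16_13', sw_16_14, sw_16_14', sw_16_15, sw_16_15', sw_17_12, sw_17_12', sw_17_13, sw_17_13', sw_17_14, sw_17_14', sw_17_15, sw_17_15', sw_17_16, sw_17_16', sw_18_12, sw_18_12', sw_18_13, sw_18_13', sw_18_14, sw_18_14', sw_18_15, sw_18_15', sw_18_16, sw_18_16', sw_18_17, sw_18_17', sw_19_12, sw_19_12', sw_19_13, sw_19_13', sw_19_14, sw_19_14', sw_19_15, sw_19_15', sw_19_16, sw_19_16', sw_19_17, sw_19_17', sw_19_18, sw_19_18', sw_20_12, sw_20_12', sw_20_13, sw_20_13', sw_20_14, sw_20_14', sw_20_15, sw_20_15', sw_20_16, sw_20_16',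 sw_20_17, sw_20_17', sw_20_18, sw_20_18', sw_20_19, sw_20_19', sw_21_12, sw_21_12', sw_21_13, sw_21_13', sw_21_14, sw_21_14', sw_21_15, sw_21_15', sw_21_16, sw_21_16', sw_21_17, sw_21_17', sw_21_18, sw_21_18', sw_21_19, sw_21_19', sw_21_20, sw_21_20', sw_22_12, sw_22_12', sw_22_13, sw_22_13', sw_22_14, sw_22_14', sw_22_15, sw_22_15', sw_22_16, sw_22_16', sw_22_17, sw_22_17', sw_22_18, sw_22_18', sw_22_19, sw_22_19', sw_22_20, sw_22_20', sw_22_21, sw_22_21', sw_23_12, sw_23_12', sw_23_13, sw_23_13', sw_23_14, sw_23_14', sw_23_15, sw_23_15', sw_23_16, sw_23_16', sw_23_17, sw_23_17', sw_23_18, sw_23_18', sw_23_19, sw_23_19', sw_23_20, sw_23_20', sw_23_21, sw_23_21', sw_23_22, sw_23_22', x_add, x_add', x_zero, neg_mul, mul_neg, neg_neg])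

theorem x23_comm_gb (c : Fx hq hK) (t : K) : x23 hq hK c * gb hq hK t = gb hq hK t * x23 hq hK c :=
  Subtype.ext (show xx 23 c * B hq hK t = B hq hK t * xx 23 c by
    simp only [B]
    simp (discharger := omega) only [mul_assoc, sw_13_12, sw_13_12', sw_14_12, sw_14_12', sw_14_13, sw_14_13', sw_15_12, sw_15_12', sw_15_13, sw_15_13', sw_15_14, sw_15_14', sw_16_12, sw_16_12', sw_16_13, sw_16_13', sw_16_14, sw_16_14', sw_16_15, sw_16_15', sw_17_12, sw_17_12', sw_17_13, sw_17_13', sw_17_14, sw_17_14', sw_17_15, sw_17_15', sw_17_16, sw_17_16', sw_18_12, sw_18_12', sw_18_13, sw_18_13', sw_18_14, sw_18_14', sw_18_15, sw_18_15', sw_18_16, sw_18_16', sw_18_17, sw_18_17', sw_19_12, sw_19_12', sw_19_13, sw_19_13', sw_19_14, sw_19_14', sw_19_15, sw_19_15', sw_19_16, sw_19_16', sw_19_17, sw_19_17', sw_19_18, sw_19_18', sw_20_12, sw_20_12', sw_20_13, sw_20_13', sw_20_14, sw_20_14', sw_20_15, sw_20_15', sw_20_16, sw_20_16', sw_20_17, sw_20_17',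 sw_20_18, sw_20_18', sw_20_19, sw_20_19', sw_21_12, sw_21_12', sw_21_13, sw_21_13', sw_21_14, sw_21_14', sw_21_15, sw_21_15', sw_21_16, sw_21_16', sw_21_17, sw_21_17', sw_21_18, sw_21_18', sw_21_19, sw_21_19', sw_21_20, sw_21_20', sw_22_12, sw_22_12', sw_22_13, sw_22_13', sw_22_14, sw_22_14', sw_22_15, sw_22_15', sw_22_16, sw_22_16', sw_22_17, sw_22_17', sw_22_18, sw_22_18', sw_22_19, sw_22_19', sw_22_20, sw_22_20', sw_22_21, sw_22_21', sw_23_12, sw_23_12', sw_23_13, sw_23_13', sw_23_14, sw_23_14', sw_23_15, sw_23_15', sw_23_16, sw_23_16', sw_23_17, sw_23_17', sw_23_18, sw_23_18', sw_23_19, sw_23_19', sw_23_20, sw_23_20', sw_23_21, sw_23_21', sw_23_22, sw_23_22', x_add, x_add', x_zero, neg_mul, mul_neg, neg_neg])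

theorem x23_comm_gc (c : Fx hq hK) (t : K) : x23 hq hK c * gc hq hK t = gc hq hK t * x23 hq hK c :=
  Subtype.ext (show xx 23 c * C hq hK t = C hq hK t * xx 23 c by
    simp only [C]
    simp (discharger := omega) only [mul_assoc, sw_13_12, sw_13_12', sw_14_12, sw_14_12', sw_14_13, sw_14_13', sw_15_12, sw_15_12', sw_15_13, sw_15_13', sw_15_14, sw_15_14', sw_16_12, sw_16_12', sw_16_13, sw_16_13', sw_16_14, sw_16_14', sw_16_15, sw_16_15', sw_17_12, sw_17_12', sw_17_13, sw_17_13', sw_17_14, sw_17_14', sw_17_15, sw_17_15', sw_17_16, sw_17_16', sw_18_12, sw_18_12', sw_18_13, sw_18_13', sw_18_14, sw_18_14', sw_18_15, sw_18_15', sw_18_16, sw_18_16', sw_18_17, sw_18_17', sw_19_12, sw_19_12', sw_19_13, sw_19_13', sw_19_14, sw_19_14', sw_19_15, sw_19_15', sw_19_16, sw_19_16', sw_19_17, sw_19_17', sw_19_18, sw_19_18', sw_20_12, sw_20_12', sw_20_13, sw_20_13', sw_20_14, sw_20_14', sw_20_15, sw_20_15', sw_20_16, sw_20_16', sw_20_17, sw_20_17',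 sw_20_18, sw_20_18', sw_20_19, sw_20_19', sw_21_12, sw_21_12', sw_21_13, sw_21_13', sw_21_14, sw_21_14', sw_21_15, sw_21_15', sw_21_16, sw_21_16', sw_21_17, sw_21_17', sw_21_18, sw_21_18', sw_21_19, sw_21_19', sw_21_20, sw_21_20', sw_22_12, sw_22_12', sw_22_13, sw_22_13', sw_22_14, sw_22_14', sw_22_15, sw_22_15', sw_22_16, sw_22_16', sw_22_17, sw_22_17', sw_22_18, sw_22_18', sw_22_19, sw_22_19', sw_22_20, sw_22_20', sw_22_21, sw_22_21', sw_23_12, sw_23_12', sw_23_13, sw_23_13', sw_23_14, sw_23_14', sw_23_15, sw_23_15', sw_23_16, sw_23_16', sw_23_17, sw_23_17', sw_23_18, sw_23_18', sw_23_19, sw_23_19', sw_23_20, sw_23_20', sw_23_21, sw_23_21', sw_23_22, sw_23_22', x_add, x_add', x_zero, neg_mul, mul_neg, neg_neg])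

theorem x14_comm_gc (c : Fx hq hK) (t : K) : x14 hq hK c * gc hq hK t = gc hq hK t * x14 hq hK c :=
  Subtype.ext (show xx 14 c * C hq hK t = C hq hK t * xx 14 c by
    simp only [C]
    simp (discharger := omega) only [mul_assoc, sw_13_12, sw_13_12', sw_14_12, sw_14_12', sw_14_13, sw_14_13', sw_15_12, sw_15_12', sw_15_13, sw_15_13', sw_15_14, sw_15_14', sw_16_12, sw_16_12', sw_16_13, sw_16_13', sw_16_14, sw_16_14', sw_16_15, sw_16_15', sw_17_12, sw_17_12', sw_17_13, sw_17_13', sw_17_14, sw_17_14', sw_17_15, sw_17_15', sw_17_16, sw_17_16', sw_18_12, sw_18_12', sw_18_13, sw_18_13', sw_18_14, sw_18_14', sw_18_15, sw_18_15', sw_18_16, sw_18_16', sw_18_17, sw_18_17', sw_19_12, sw_19_12', sw_19_13, sw_19_13', sw_19_14, sw_19_14', sw_19_15, sw_19_15', sw_19_16, sw_19_16', sw_19_17, sw_19_17', sw_19_18, sw_19_18', sw_20_12, sw_20_12', sw_20_13, sw_20_13', sw_20_14, sw_20_14', sw_20_15, sw_20_15', sw_20_16, sw_20_16', sw_20_17, sw_20_17',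 sw_20_18, sw_20_18', sw_20_19, sw_20_19', sw_21_12, sw_21_12', sw_21_13, sw_21_13', sw_21_14, sw_21_14', sw_21_15, sw_21_15', sw_21_16, sw_21_16', sw_21_17, sw_21_17', sw_21_18, sw_21_18', sw_21_19, sw_21_19', sw_21_20, sw_21_20', sw_22_12, sw_22_12', sw_22_13, sw_22_13', sw_22_14, sw_22_14', sw_22_15, sw_22_15', sw_22_16, sw_22_16', sw_22_17, sw_22_17', sw_22_18, sw_22_18', sw_22_19, sw_22_19', sw_22_20, sw_22_20', sw_22_21, sw_22_21', sw_23_12, sw_23_12', sw_23_13, sw_23_13', sw_23_14, sw_23_14', sw_23_15, sw_23_15', sw_23_16, sw_23_16', sw_23_17, sw_23_17', sw_23_18, sw_23_18', sw_23_19, sw_23_19', sw_23_20, sw_23_20', sw_23_21, sw_23_21', sw_23_22, sw_23_22', x_add, x_add', x_zero, neg_mul, mul_neg, neg_neg])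

theorem x23_comm_long {r : ℕ} (hr : r < 24) (hρ : Data.D4.graph.ρ r = r) (h12 : 12 ≤ r) (c u : Fx hq hK) :
    x23 hq hK c * long hq hK r hr hρ u = long hq hK r hr hρ u * x23 hq hK c :=
  Subtype.ext (top_commute (x_U hr h12 _) _).eq

theorem x22_x14 (u c : Fx hq hK) :
    x22 hq hK u * x14 hq hK c = x14 hq hK c * (x22 hq hK u * x23 hq hK (-(c * u))) :=
  Subtype.ext (show xx 22 u * xx 14 c = xx 14 c * (xx 22 u * xx 23 (-(c * u) : K)) by
    simp (discharger := omega) only [sw_22_14])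

theorem gc_gb (s t : K) :
    gc hq hK t * gb hq hK s = gb hq hK s * (gc hq hK t * x23 hq hK (-tr hq hK (s * σ t))) :=
  Subtype.ext (show C hq hK t * B hq hK s =
      B hq hK s * (C hq hK t * xx 23 (-(s * σ t + (σ (s * σ t) + σ (σ (s * σ t)))))) by
    simp only [B, C, map_mul, h3 hq hK]
    simp (discharger := omega) only [mul_assoc, sw_13_12, sw_13_12', sw_14_12, sw_14_12', sw_14_13, sw_14_13', sw_15_12, sw_15_12', sw_15_13, sw_15_13', sw_15_14, sw_15_14', sw_16_12, sw_16_12', sw_16_13, sw_16_13', sw_16_14, sw_16_14', sw_16_15, sw_16_15', sw_17_12, sw_17_12', sw_17_13, sw_17_13', sw_17_14, sw_17_14', sw_17_15, sw_17_15', sw_17_16, sw_17_16', sw_18_12, sw_18_12', sw_18_13, sw_18_13', sw_18_14, sw_18_14', sw_18_15, sw_18_15', sw_18_16, sw_18_16', sw_18_17, sw_18_17', sw_19_12, sw_19_12', sw_19_13, sw_19_13', sw_19_14, sw_19_14', sw_19_15, sw_19_15', sw_19_16, sw_19_16', sw_19_17, sw_19_17', sw_19_18, sw_19_18', sw_20_12, sw_20_12',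 sw_20_13, sw_20_13', sw_20_14, sw_20_14', sw_20_15, sw_20_15', sw_20_16, sw_20_16', sw_20_17, sw_20_17', sw_20_18, sw_20_18', sw_20_19, sw_20_19', sw_21_12, sw_21_12', sw_21_13, sw_21_13', sw_21_14, sw_21_14', sw_21_15, sw_21_15', sw_21_16, sw_21_16', sw_21_17, sw_21_17', sw_21_18, sw_21_18', sw_21_19, sw_21_19', sw_21_20, sw_21_20', sw_22_12, sw_22_12', sw_22_13, sw_22_13', sw_22_14, sw_22_14', sw_22_15, sw_22_15', sw_22_16, sw_22_16', sw_22_17, sw_22_17', sw_22_18, sw_22_18', sw_22_19, sw_22_19', sw_22_20, sw_22_20', sw_22_21, sw_22_21', sw_23_12, sw_23_12', sw_23_13, sw_23_13', sw_23_14, sw_23_14', sw_23_15, sw_23_15', sw_23_16, sw_23_16', sw_23_17, sw_23_17', sw_23_18, sw_23_18', sw_23_19, sw_23_19', sw_23_20, sw_23_20', sw_23_21, sw_23_21', sw_23_22, sw_23_22', x_add, x_add', x_zero, neg_mul, mul_neg, neg_neg]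
    try ring_nf
    try simp (discharger := omega) only [x_zero, mul_one])

theorem x14_ga (c : Fx hq hK) (t : K) :
    x14 hq hK c * ga hq hK t = ga hq hK t * (x14 hq hK c * (gb hq hK ((c : K) * t) *
      gc hq hK (-((c : K) * (t * σ t))) * x22 hq hK (c * nm hq hK t) * x23 hq hK (c * c * nm hq hK t))) :=
  Subtype.ext (show xx 14 c * D4Sub.A hq hK t = D4Sub.A hq hK t * (xx 14 c * (B hq hK ((c : K) * t) *
      C hq hK (-((c : K) * (t * σ t))) * xx 22 ((c : K) * (t * (σ t * σ (σ t)))) *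
        xx 23 ((c : K) * c * (t * (σ t * σ (σ t)))))) by
    simp only [D4Sub.A, B, C, map_mul, map_neg, fx_eq hq hK c, h3 hq hK]
    simp (discharger := omega) only [mul_assoc, sw_13_12, sw_13_12', sw_14_12, sw_14_12', sw_14_13, sw_14_13', sw_15_12, sw_15_12', sw_15_13, sw_15_13', sw_15_14, sw_15_14', sw_16_12, sw_16_12', sw_16_13, sw_16_13', sw_16_14, sw_16_14', sw_16_15, sw_16_15', sw_17_12, sw_17_12', sw_17_13, sw_17_13', sw_17_14, sw_17_14', sw_17_15, sw_17_15', sw_17_16, sw_17_16', sw_18_12, sw_18_12', sw_18_13, sw_18_13', sw_18_14, sw_18_14', sw_18_15, sw_18_15', sw_18_16, sw_18_16', sw_18_17, sw_18_17', sw_19_12, sw_19_12', sw_19_13, sw_19_13', sw_19_14, sw_19_14', sw_19_15, sw_19_15', sw_19_16, sw_19_16', sw_19_17, sw_19_17', sw_19_18, sw_19_18', sw_20_12, sw_20_12', sw_20_13, sw_20_13', sw_20_14, sw_20_14', sw_20_15, sw_20_15', sw_20_16, sw_20_16', sw_20_17, sw_20_17', sw_20_18, sw_20_18', sw_20_19, sw_20_19', sw_21_12,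 sw_21_12', sw_21_13, sw_21_13', sw_21_14, sw_21_14', sw_21_15, sw_21_15', sw_21_16, sw_21_16', sw_21_17, sw_21_17', sw_21_18, sw_21_18', sw_21_19, sw_21_19', sw_21_20, sw_21_20', sw_22_12, sw_22_12', sw_22_13, sw_22_13', sw_22_14, sw_22_14', sw_22_15, sw_22_15', sw_22_16, sw_22_16', sw_22_17, sw_22_17', sw_22_18, sw_22_18', sw_22_19, sw_22_19', sw_22_20, sw_22_20', sw_22_21, sw_22_21', sw_23_12, sw_23_12', sw_23_13, sw_23_13', sw_23_14, sw_23_14', sw_23_15, sw_23_15', sw_23_16, sw_23_16', sw_23_17, sw_23_17', sw_23_18, sw_23_18', sw_23_19, sw_23_19', sw_23_20, sw_23_20', sw_23_21, sw_23_21', sw_23_22, sw_23_22', x_add, x_add', x_zero, neg_mul, mul_neg, neg_neg]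
    ring_nf
    try simp (discharger := omega) only [x_zero, mul_one])

end CfsgLib.KnownA.MinDegD4
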