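import Cfsg.Agent.Lib.KnownA.MinDegD4.Rel
import Cfsg.Agent.Lib.Chevalley.CoxeterTorus.Main

/-!
Reflections, torus elements, and generators of ³D₄(q).
-/

set_option autoImplicit false
set_option maxRecDepth 20000
set_option Elab.async false

namespace CfsgLib.KnownA.MinDegD4

open CfsgLib.Chevalley CfsgLib.Chevalley.Tbl CfsgLib.KnownA.D4Sub
open CfsgLib.Chevalley.CoxeterTorus (tCh torus_xU)

variable {K : Type*} [Field K] [Finite K] {q : ℕ} (hq : IsPrimePow q) (hK : Nat.card K = q ^ 3)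

local notation "TT" => Data.D4.tbl
local notation "xx" => Data.D4.tbl.xU K
local notation "σ" => Twist.D4.fq hq hK
local notation "SS" => AbSetup.S (Twist.D4.setup hq hK)

/-- The long reflection. -/
noncomputable def gn : Gd hq hK := ⟨D4Sub.n14, n14_fix hq hK⟩

/-- The short reflection. -/
noncomputable def gm : Gd hq hK := ⟨D4Sub.nA, nA_fix hq hK⟩

theorem gn_x22 (u : Fx hq hK) : gn hq hK * x22 hq hK u = x23 hq hK u * gn hq hK :=
  Subtype.ext (show n14 * xx 22 (u : K) = xx 23 (u : K) * n14 by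
    rw [n14_x (s' := 23) (e := 1) (by norm_num) (by decide +kernel) (by decide +kernel), Int.cast_one, one_mul])

theorem gn_x23 (u : Fx hq hK) : gn hq hK * x23 hq hK u = x22 hq hK (-u) * gn hq hK :=
  Subtype.ext (show n14 * xx 23 (u : K) = xx 22 (-(u : K)) * n14 by
    rw [n14_x (s' := 22) (e := -1) (by norm_num) (by decide +kernel) (by decide +kernel), Int.cast_neg,
      Int.cast_one, neg_one_mul])

theorem gn_x14 (u : Fx hq hK) : gn hq hK * x14 hq hK u = x9 hq hK (-u) * gn hq hK :=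
  Subtype.ext (show n14 * xx 14 (u : K) = xx 9 (-(u : K)) * n14 by
    rw [n14_x (s' := 9) (e := -1) (by norm_num) (by decide +kernel) (by decide +kernel), Int.cast_neg,
      Int.cast_one, neg_one_mul])

theorem gn_gc (t : K) : gn hq hK * gc hq hK t = gc hq hK t * gn hq hK :=
  Subtype.ext (show n14 * C hq hK t = C hq hK t * n14 by
    rw [C, ← mul_assoc, n14_x (s' := 21) (e := 1) (by norm_num) (by decide +kernel) (by decide +kernel),
      mul_assoc (xx 21 _), ← mul_assoc n14,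
      n14_x (s' := 17) (e := 1) (by norm_num) (by decide +kernel) (by decide +kernel),
      mul_assoc (xx 17 _), n14_x (s' := 20) (e := 1) (by norm_num) (by decide +kernel) (by decide +kernel)]
    simp only [Int.cast_one, one_mul, mul_assoc])

theorem gn_ga (t : K) : gn hq hK * ga hq hK t = gb hq hK t * gn hq hK :=
  Subtype.ext (n14_A hq hK t)

theorem gm_x22 (u : Fx hq hK) : gm hq hK * x22 hq hK u = x14 hq hK u * gm hq hK :=
  Subtype.ext (show nA * xx 22 (u : K) = xx 14 (u : K) * nA by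
    rw [nA_x (s₁ := (TT).refl 3 22) (s₂ := (TT).refl 2 ((TT).refl 3 22)) (s₃ := 14) (e := 1) (by norm_num)
      (by decide +kernel) (by decide +kernel), Int.cast_one, one_mul])

theorem gm_x14 (u : Fx hq hK) : gm hq hK * x14 hq hK u = x22 hq hK (-u) * gm hq hK :=
  Subtype.ext (show nA * xx 14 (u : K) = xx 22 (-(u : K)) * nA by
    rw [nA_x (s₁ := (TT).refl 3 14) (s₂ := (TT).refl 2 ((TT).refl 3 14)) (s₃ := 22) (e := -1) (by norm_num)
      (by decide +kernel) (by decide +kernel), Int.cast_neg, Int.cast_one, neg_one_mul])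

theorem gm_x23 (u : Fx hq hK) : gm hq hK * x23 hq hK u = x23 hq hK u * gm hq hK :=
  Subtype.ext (show nA * xx 23 (u : K) = xx 23 (u : K) * nA by
    rw [nA_x (s₁ := (TT).refl 3 23) (s₂ := (TT).refl 2 ((TT).refl 3 23)) (s₃ := 23) (e := 1) (by norm_num)
      (by decide +kernel) (by decide +kernel), Int.cast_one, one_mul])

/-- The negative short root elements. -/
noncomputable def gan (t : K) : Gd hq hK := ⟨An hq hK t, An_fix hq hK t⟩

theorem gm_ga (t : K) : gm hq hK * ga hq hK t = gan hq hK (-t) * gm hq hK :=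
  Subtype.ext (nA_A hq hK t)

/-! ### Generation -/

theorem eq_top_of_gens {H : Subgroup (Gd hq hK)} (ha : ∀ t, ga hq hK t ∈ H) (han : ∀ t, gan hq hK t ∈ H)
    (h14 : ∀ c, x14 hq hK c ∈ H) (h9 : ∀ c, x9 hq hK c ∈ H) : H = ⊤ := by
  refine eq_top_iff.2 fun g _ => ?_
  suffices h : (AbSetup.S (Twist.D4.setup hq hK)).fix ≤ H.map (Subgroup.subtype _) by
    obtain ⟨y, hy, e⟩ := h g.2
    obtain rfl : y = g := Subtype.ext e
    exact hy
  refine (Twist.D4.G_eq hq hK).ge.trans ?_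
  rw [Twist.D4.G_def]
  refine (Subgroup.closure_le _).2 ?_
  rintro x ⟨w, hw, hx⟩
  suffices hg : ∀ g : Gd hq hK, (g : GL (TT).I K) = (w.map fun p => xx p.1 p.2).prod →
      g ∈ H → x ∈ H.map (Subgroup.subtype _) by
    obtain ⟨j, hj, t, ht, hw⟩ := (Twist.D4.mem_words hq hK w).1 hw
    obtain rfl | rfl : j = 0 ∨ j = 1 := by omega
    · rw [Twist.D4.simples0, Twist.D4.negs0, Twist.D4.cyc1, Twist.D4.cyc1] at hw
      have ht' : σ t = t := ht
      rcases hw with rfl | rfl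
      · exact hg (x14 hq hK ⟨t, ht'⟩) (List.prod_singleton (x := xx 14 t)).symm (h14 _)
      · exact hg (x9 hq hK ⟨t, ht'⟩) (List.prod_singleton (x := xx 9 t)).symm (h9 _)
    · rw [Twist.D4.simples1, Twist.D4.negs1] at hw
      rcases hw with rfl | rfl
      · refine hg (ga hq hK t) ?_ (ha t)
        show D4Sub.A hq hK t = [xx 18 t, xx 13 (σ t), xx 12 (σ (σ t))].prod
        simp [D4Sub.A]
      · refine hg (gan hq hK t) ?_ (han t)
        show An hq hK t = [xx 5 t, xx 10 (σ t), xx 11 (σ (σ t))].prod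
        simp [An]
  intro g e hgH
  refine ⟨g, hgH, Units.ext ?_⟩
  rw [hx, Data.D4.valid |> fun hv => wordMat_eq hv w ?_]
  · exact congrArg Units.val e
  · intro p hp
    obtain ⟨j, hj, t, -, hw⟩ := (Twist.D4.mem_words hq hK w).1 hw
    obtain rfl | rfl : j = 0 ∨ j = 1 := by omega
    · rw [Twist.D4.simples0, Twist.D4.negs0] at hw
      rcases hw with rfl | rfl <;> simp [Twist.D4.cyc1] at hp <;> subst hp <;> rw [show (TT).n = 24 from by decide +kernel] <;> norm_num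
    · rw [Twist.D4.simples1, Twist.D4.negs1, Twist.D4.cyc3, Twist.D4.cyc3] at hw
      rcases hw with rfl | rfl <;> simp at hp <;> rcases hp with rfl | rfl | rfl <;> rw [show (TT).n = 24 from by decide +kernel] <;> norm_num

/-! ### Torus elements -/

/-- The parameters of a torus element. -/
noncomputable def tf (u : Kˣ) (c : (Fx hq hK)ˣ) : Fin (Data.D4.tbl).rank → Kˣ :=
  (![u, Units.map (Fx hq hK).subtype.toMonoidHom c, u ^ q, (u ^ q) ^ q] : Fin 4 → Kˣ)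

theorem tf_mem (u : Kˣ) (c : (Fx hq hK)ˣ) : tf hq hK u c ∈ (Twist.D4.setup hq hK).D.tauFix := by
  refine (Twist.D4.mem_tauFix hq hK).2 ⟨Units.ext ?_, rfl, rfl⟩
  show ((c : Fx hq hK) : K) ^ q = ((c : Fx hq hK) : K)
  rw [← Twist.D4.fq_apply hq hK]
  exact fx_eq hq hK c

/-- A torus element. -/
noncomputable def gh (u : Kˣ) (c : (Fx hq hK)ˣ) : Gd hq hK :=
  ⟨torusHom Data.D4.tbl K (tf hq hK u c), by
    have h : torusHom Data.D4.tbl K (tf hq hK u c) ∈ (Twist.D4.setup hq hK).D.tauFix.map (torusHom Data.D4.tbl K) :=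
      Subgroup.mem_map_of_mem _ (tf_mem hq hK u c)
    rw [← Twist.D4.diag_fix hq hK] at h
    exact h.2⟩

theorem tCh_eq (u : Kˣ) (c : (Fx hq hK)ˣ) (s : ℕ) :
    ((tCh Data.D4.tbl (tf hq hK u c) s : Kˣ) : K) =
      (u : K) ^ (TT).ca 0 s * ((c : Fx hq hK) : K) ^ (TT).ca 1 s * σ (u : K) ^ (TT).ca 2 s *
        σ (σ (u : K)) ^ (TT).ca 3 s := by
  show ((∏ i : Fin 4, (![u, Units.map (Fx hq hK).subtype.toMonoidHom c, u ^ q, (u ^ q) ^ q] : Fin 4 → Kˣ) i ^
    (TT).ca i s : Kˣ) : K) = _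
  simp [Fin.prod_univ_four, Twist.D4.fq_apply]

theorem xx_gh (u : Kˣ) (c : (Fx hq hK)ˣ) {s : ℕ} (hs : s < 24) {w : K} (t : K)
    (hw : ((tCh Data.D4.tbl (tf hq hK u c) s : Kˣ) : K) = w) :
    torusHom Data.D4.tbl K (tf hq hK u c) * xx s t = xx s (w * t) * torusHom Data.D4.tbl K (tf hq hK u c) := by
  rw [← hw]
  exact torus_xU Data.D4.valid (tf hq hK u c) ⟨s, by exact hs⟩ t

theorem gh_long (u : Kˣ) (c : (Fx hq hK)ˣ) {r : ℕ} (hr : r < 24) (hρ : Data.D4.graph.ρ r = r)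
    {w : Fx hq hK} (hw : ((tCh Data.D4.tbl (tf hq hK u c) r : Kˣ) : K) = (w : K)) (t : Fx hq hK) :
    long hq hK r hr hρ (w * t) * gh hq hK u c = gh hq hK u c * long hq hK r hr hρ t :=
  (Subtype.ext (xx_gh hq hK u c hr (t : K) hw)).symm

theorem w23 (u : Kˣ) (c : (Fx hq hK)ˣ) (t : Fx hq hK) :
    x23 hq hK ((c : Fx hq hK) * t) * gh hq hK u c = gh hq hK u c * x23 hq hK t := by
  refine gh_long hq hK u c _ _ ?_ t
  simp [tCh_eq, show (TT).ca 0 23 = 0 ∧ (TT).ca 1 23 = 1 ∧ (TT).ca 2 23 = 0 ∧ (TT).ca 3 23 = 0 by decide +kernel]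

theorem w22 (u : Kˣ) (c : (Fx hq hK)ˣ) (t : Fx hq hK) :
    x22 hq hK (nm hq hK u / (c : Fx hq hK) * t) * gh hq hK u c = gh hq hK u c * x22 hq hK t := by
  refine gh_long hq hK u c _ _ ?_ t
  simp [tCh_eq, nm, show (TT).ca 0 22 = 1 ∧ (TT).ca 1 22 = -1 ∧ (TT).ca 2 22 = 1 ∧ (TT).ca 3 22 = 1 by decide +kernel]
  ring

theorem w14 (u : Kˣ) (c : (Fx hq hK)ˣ) (t : Fx hq hK) :
    x14 hq hK ((c : Fx hq hK) ^ 2 / nm hq hK u * t) * gh hq hK u c = gh hq hK u c * x14 hq hK t := by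
  refine gh_long hq hK u c _ _ ?_ t
  simp [tCh_eq, nm, show (TT).ca 0 14 = -1 ∧ (TT).ca 1 14 = 2 ∧ (TT).ca 2 14 = -1 ∧ (TT).ca 3 14 = -1 by decide +kernel]
  ring

/-- The weight on the first short root. -/
noncomputable def wA (u : Kˣ) (c : (Fx hq hK)ˣ) : K := (u : K) ^ 2 / ((c : Fx hq hK) : K)

/-- The weight on the second short root. -/
noncomputable def wB (u : Kˣ) (c : (Fx hq hK)ˣ) : K :=
  (u : K) * ((c : Fx hq hK) : K) / (σ (u : K) * σ (σ (u : K)))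

/-- The weight on the highest short root. -/
noncomputable def wC (u : Kˣ) : K := (u : K) * σ (u : K) / σ (σ (u : K))

theorem gh_triple (u : Kˣ) (c : (Fx hq hK)ˣ) {a b d : ℕ} (ha : a < 24) (hb : b < 24) (hd : d < 24)
    {wa wb wd : K} (h1 : ((tCh Data.D4.tbl (tf hq hK u c) a : Kˣ) : K) = wa)
    (h2 : ((tCh Data.D4.tbl (tf hq hK u c) b : Kˣ) : K) = wb)
    (h3' : ((tCh Data.D4.tbl (tf hq hK u c) d : Kˣ) : K) = wd) (r s t : K) :
    torusHom Data.D4.tbl K (tf hq hK u c) * (xx a r * (xx b s * xx d t)) =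
      xx a (wa * r) * (xx b (wb * s) * xx d (wd * t)) * torusHom Data.D4.tbl K (tf hq hK u c) := by
  rw [← mul_assoc, xx_gh hq hK u c ha r h1, mul_assoc, ← mul_assoc (torusHom _ _ _), xx_gh hq hK u c hb s h2,
    mul_assoc (xx b _), xx_gh hq hK u c hd t h3']
  group

theorem hA (u : Kˣ) (c : (Fx hq hK)ˣ) (t : K) :
    ga hq hK (wA hq hK u c * t) * gh hq hK u c = gh hq hK u c * ga hq hK t := by
  refine (Subtype.ext ?_).symm
  show torusHom Data.D4.tbl K (tf hq hK u c) * D4Sub.A hq hK t =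
    D4Sub.A hq hK (wA hq hK u c * t) * torusHom Data.D4.tbl K (tf hq hK u c)
  have hσ : σ (wA hq hK u c) = σ (u : K) ^ 2 / ((c : Fx hq hK) : K) := by
    rw [wA, map_div₀, map_pow, fx_eq]
  have hσσ : σ (σ (wA hq hK u c)) = σ (σ (u : K)) ^ 2 / ((c : Fx hq hK) : K) := by
    rw [hσ, map_div₀, map_pow, fx_eq]
  rw [D4Sub.A, gh_triple hq hK u c (a := 18) (b := 13) (d := 12) (by norm_num) (by norm_num) (by norm_num)
    (wa := wA hq hK u c) (wb := σ (wA hq hK u c)) (wd := σ (σ (wA hq hK u c))) ?_ ?_ ?_,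
    D4Sub.A, map_mul, map_mul]
  all_goals (first | rw [hσσ] | rw [hσ] | rw [wA])
  · simp [tCh_eq, show (TT).ca 0 18 = 2 ∧ (TT).ca 1 18 = -1 ∧ (TT).ca 2 18 = 0 ∧ (TT).ca 3 18 = 0 by decide +kernel]
    ring
  · simp [tCh_eq, show (TT).ca 0 13 = 0 ∧ (TT).ca 1 13 = -1 ∧ (TT).ca 2 13 = 2 ∧ (TT).ca 3 13 = 0 by decide +kernel]
    ring
  · simp [tCh_eq, show (TT).ca 0 12 = 0 ∧ (TT).ca 1 12 = -1 ∧ (TT).ca 2 12 = 0 ∧ (TT).ca 3 12 = 2 by decide +kernel]
    ring

theorem hB (u : Kˣ) (c : (Fx hq hK)ˣ) (t : K) :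
    gb hq hK (wB hq hK u c * t) * gh hq hK u c = gh hq hK u c * gb hq hK t := by
  refine (Subtype.ext ?_).symm
  show torusHom Data.D4.tbl K (tf hq hK u c) * B hq hK t =
    B hq hK (wB hq hK u c * t) * torusHom Data.D4.tbl K (tf hq hK u c)
  rw [B, gh_triple hq hK u c (a := 19) (b := 16) (d := 15) (by norm_num) (by norm_num) (by norm_num)
    (wa := wB hq hK u c) (wb := σ (wB hq hK u c)) (wd := σ (σ (wB hq hK u c))) ?_ ?_ ?_,
    B, map_mul, map_mul, mul_neg, mul_neg]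
  all_goals simp only [wB, map_div₀, map_mul, fx_eq, h3 hq hK]
  · simp [tCh_eq, show (TT).ca 0 19 = 1 ∧ (TT).ca 1 19 = 1 ∧ (TT).ca 2 19 = -1 ∧ (TT).ca 3 19 = -1 by decide +kernel]
    ring
  · simp [tCh_eq, show (TT).ca 0 16 = -1 ∧ (TT).ca 1 16 = 1 ∧ (TT).ca 2 16 = 1 ∧ (TT).ca 3 16 = -1 by decide +kernel]
    ring
  · simp [tCh_eq, show (TT).ca 0 15 = -1 ∧ (TT).ca 1 15 = 1 ∧ (TT).ca 2 15 = -1 ∧ (TT).ca 3 15 = 1 by decide +kernel]
    ring

theorem hC (u : Kˣ) (c : (Fx hq hK)ˣ) (t : K) :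
    gc hq hK (wC hq hK u * t) * gh hq hK u c = gh hq hK u c * gc hq hK t := by
  refine (Subtype.ext ?_).symm
  show torusHom Data.D4.tbl K (tf hq hK u c) * C hq hK t =
    C hq hK (wC hq hK u * t) * torusHom Data.D4.tbl K (tf hq hK u c)
  rw [C, gh_triple hq hK u c (a := 21) (b := 17) (d := 20) (by norm_num) (by norm_num) (by norm_num)
    (wa := wC hq hK u) (wb := σ (wC hq hK u)) (wd := σ (σ (wC hq hK u))) ?_ ?_ ?_,
    C, map_mul, map_mul, mul_neg]
  all_goals simp only [wC, map_div₀, map_mul, h3 hq hK]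
  · simp [tCh_eq, show (TT).ca 0 21 = 1 ∧ (TT).ca 1 21 = 0 ∧ (TT).ca 2 21 = 1 ∧ (TT).ca 3 21 = -1 by decide +kernel]
    ring
  · simp [tCh_eq, show (TT).ca 0 17 = -1 ∧ (TT).ca 1 17 = 0 ∧ (TT).ca 2 17 = 1 ∧ (TT).ca 3 17 = 1 by decide +kernel]
    ring
  · simp [tCh_eq, show (TT).ca 0 20 = 1 ∧ (TT).ca 1 20 = 0 ∧ (TT).ca 2 20 = -1 ∧ (TT).ca 3 20 = 1 by decide +kernel]
    ring

end CfsgLib.KnownA.MinDegD4
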